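import Cfsg.Agent.Known.Inv.Lie3

/-! Involutions centralising a frame of quaternion groups in an adjoint Chevalley group. -/

set_option autoImplicit false

namespace CF.TC

open Subgroup CF.Chev CF.BN CF.KB CF.KI
open scoped commutatorElement MatrixGroups

/-- Every 2-central involution lies in the commutator subgroup of its centraliser. -/
def Tc (Y : Type*) [Group Y] : Prop := ∀ u : Y, u ^ 2 = 1 → ¬ 2 ∣ (centralizer ({u} : Set Y)).index →
  u ∈ ⁅centralizer ({u} : Set Y), centralizer ({u} : Set Y)⁆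

section

variable {Y Z : Type*} [Group Y] [Group Z]

theorem Tc.of_equiv (h : Tc Y) (e : Z ≃* Y) : Tc Z := fun u h1 h2 => by
  have k : (centralizer ({e u} : Set Y)).map e.symm.toMonoidHom = centralizer {u} := by
    ext x
    simp only [mem_map_equiv, mem_centralizer_singleton_iff, MulEquiv.symm_symm, ← map_mul,
      EmbeddingLike.apply_eq_iff_eq]
  have := mem_map_of_mem e.symm.toMonoidHom (h (e u) (by rw [← map_pow, h1, map_one]) (by
    rwa [← k, MulEquiv.toMonoidHom_eq_coe, index_map_equiv] at h2))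
  rw [map_commutator, k] at this
  simpa using this

theorem tc_of [Finite Y] {R : Subgroup Y} (hR : IsPGroup 2 R)
    (h : ∀ u, u ^ 2 = 1 → R ≤ centralizer {u} → u ∈ ⁅R, R⁆) : Tc Y := fun u h1 h2 => by
  have : Fact (Nat.Prime 2) := ⟨Nat.prime_two⟩
  obtain ⟨P, hP⟩ := Solv.exists_sylow_le_of_not_dvd_index h2
  obtain ⟨Q, hQ⟩ := hR.exists_le_sylow
  obtain ⟨g, rfl⟩ := MulAction.exists_smul_eq Y Q P
  have k : R.map (MulAut.conj g).toMonoidHom ≤ centralizer {u} := by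
    rintro _ ⟨x, hx, rfl⟩
    exact hP ⟨x, hQ hx, rfl⟩
  have := mem_map_of_mem (MulAut.conj g).toMonoidHom (h (g⁻¹ * u * g) (by
    simpa [h1] using conj_pow (a := g⁻¹) (b := u) (i := 2)) fun x hx => by
      have := mem_centralizer_singleton_iff.1 (k ⟨x, hx, rfl⟩)
      refine mem_centralizer_singleton_iff.2 ?_
      simpa [mul_assoc] using congrArg (fun y => g⁻¹ * y * g) this)
  rw [map_commutator] at this
  simpa [mul_assoc] using commutator_mono k k this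

theorem isPGroup_closure {x y : Y} (h1 : x ^ 4 = 1) (h2 : y ^ 4 = 1) (h3 : y * x * y⁻¹ = x⁻¹) :
    IsPGroup 2 (closure {x, y} : Subgroup Y) := by
  have k : ∀ z : Y, z ^ 4 = 1 → IsPGroup 2 (zpowers z) := fun z hz a => ⟨2, Subtype.ext (by
    obtain ⟨_, n, rfl⟩ := a
    change (z ^ n) ^ 4 = 1
    rw [← zpow_natCast, ← zpow_mul, mul_comm, zpow_mul, zpow_natCast, hz, one_zpow])⟩
  rw [← Set.singleton_union, Subgroup.closure_union, ← zpowers_eq_closure, ← zpowers_eq_closure]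
  refine (k x h1).to_sup_of_normal_left' (k y h2) (zpowers_le.2 (mem_normalizer_iff.2 fun a => ?_))
  have h4 : y⁻¹ * x * y = x⁻¹ := by
    simpa [mul_assoc] using (congrArg (fun z => (y⁻¹ * z * y)⁻¹) h3).symm
  constructor
  · rintro ⟨n, rfl⟩
    exact ⟨-n, by simp [← conj_zpow, h3]⟩
  · rintro ⟨n, e⟩
    refine ⟨-n, ?_⟩
    have : a = y⁻¹ * x ^ n * y⁻¹⁻¹ := by simp only at e; rw [e]; group
    rw [this, ← conj_zpow, inv_inv, h4]; simp

theorem isPGroup_iSup {I : Type*} [DecidableEq I] (S : Finset I) (Q : I → Subgroup Y)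
    (h1 : ∀ a ∈ S, IsPGroup 2 (Q a)) (h2 : ∀ a ∈ S, ∀ b ∈ S, a ≠ b → Q a ≤ centralizer (Q b)) :
    IsPGroup 2 (⨆ a ∈ S, Q a : Subgroup Y) := by
  induction S using Finset.induction_on with
  | empty => exact (by simp : ⊥ = ⨆ a ∈ (∅ : Finset I), Q a) ▸ IsPGroup.of_bot
  | insert a S ha ih =>
    rw [Finset.iSup_insert]
    refine (h1 a (by simp)).to_sup_of_normal_left' (ih (fun b hb => h1 b (by simp [hb]))
      fun b hb c hc => h2 b (by simp [hb]) c (by simp [hc]))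
      (iSup₂_le fun b hb => (h2 b (by simp [hb]) a (by simp) ?_).trans (centralizer_le_normalizer _))
    rintro rfl; exact ha hb

theorem exists_conj_all {I : Type*} [DecidableEq I] (S : Finset I) (L : I → Subgroup Y) (g : I → Y)
    (h1 : ∀ a ∈ S, g a ∈ L a) (h2 : ∀ a ∈ S, ∀ b ∈ S, a ≠ b → L a ≤ centralizer (L b)) :
    ∃ k ∈ ⨆ a ∈ S, L a, ∀ a ∈ S, ∀ z ∈ L a, k * z * k⁻¹ = g a * z * (g a)⁻¹ := by
  induction S using Finset.induction_on with
  | empty => exact ⟨1, one_mem _, by simp⟩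
  | insert a S ha ih =>
    obtain ⟨k, h3, h4⟩ := ih (fun b hb => h1 b (by simp [hb]))
      fun b hb c hc => h2 b (by simp [hb]) c (by simp [hc])
    have n : ∀ b ∈ S, b ≠ a := by rintro b hb rfl; exact ha hb
    have h5 : k ∈ centralizer (L a : Set Y) :=
      (iSup₂_le fun b hb => h2 b (by simp [hb]) a (by simp) (n b hb) : _ ≤ centralizer _) h3
    rw [Finset.iSup_insert]
    refine ⟨g a * k, mul_mem (mem_sup_left (h1 a (by simp))) (mem_sup_right h3), fun b hb z hz => ?_⟩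
    rcases Finset.mem_insert.1 hb with rfl | hb
    · simp [mul_assoc, ← h5 z hz]
    · have h6 := h1 b (by simp [hb])
      have := h2 a (by simp) b (by simp [hb]) (n b hb).symm (h1 a (by simp)) _
        (mul_mem (mul_mem h6 hz) (inv_mem h6))
      calc _ = g a * (k * z * k⁻¹) * (g a)⁻¹ := by group
        _ = _ := by rw [h4 b hb z hz, ← this]; group

end

variable {B ι : Type} [Fintype B] [DecidableEq B] [Fintype ι] [DecidableEq ι]
  {C : ChevBasis B ι} {K : Type*} [Field K] {G : Type*} [Group G]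
  {ρ : StRep C K G} {π : Equiv.Perm ι} {S : Finset ι} {a b : ι}

variable (C) in
/-- A frame of strongly orthogonal roots. -/
structure Fr (S : Finset ι) : Prop where
  orth : ∀ a ∈ S, ∀ b ∈ S, a ≠ b → C.A a b = 0
  two : ∀ a ∈ S, ∀ v, C.A a v = 2 → v = a
  odd : ∀ a ∈ S, ∃ r, C.A a r % 2 = 1
  cov : ∀ r, ∃ a ∈ S, C.A a r ≠ 0
  good : ∀ e, (∀ a ∈ S, a ∈ Sg C e) → ∃ y : ι → ℤ, ∀ r, r ∈ Sg C e ↔ 2 ∣ ∑ a ∈ S, y a * C.A a r

theorem exists_reg (h : ∀ r, ∃ a ∈ S, C.A a r ≠ 0) : ∃ y : ι → ℤ, ∀ r, ∑ a ∈ S, y a * C.A a r ≠ 0 := by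
  classical
  let n := Fintype.equivFin ι
  let P : ι → Polynomial ℤ := fun r => ∑ a ∈ S, Polynomial.monomial (n a) (C.A a r)
  have h1 : ∀ r, P r ≠ 0 := fun r e => by
    obtain ⟨a, h1, h2⟩ := h r
    have := congrArg (Polynomial.coeff · (n a)) e
    simp [P, Polynomial.coeff_monomial, Fin.val_inj, h1] at this
    exact h2 this
  obtain ⟨x, hx⟩ : ∃ x, (∏ r, P r).eval x ≠ 0 := by_contra fun k =>
    Finset.prod_ne_zero_iff.2 (fun r _ => h1 r) (Polynomial.funext (by simpa using k))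
  refine ⟨fun a => x ^ (n a : ℕ), fun r e => hx ?_⟩
  rw [Polynomial.eval_prod]
  exact Finset.prod_eq_zero (Finset.mem_univ r) (by simpa [P, Polynomial.eval_finsetSum, mul_comm] using e)

variable (ρ) in
/-- The rank one subgroup of a root. -/
abbrev Lr (a : ι) : Subgroup G := ρ.U {a, C.neg a}

theorem Fr.comm (H : Fr C S) (ha : a ∈ S) (hb : b ∈ S) (e : a ≠ b) :
    Lr ρ a ≤ centralizer (Lr ρ b) := by
  have k : ∀ r ∈ ({a, C.neg a} : Set ι), ∀ s ∈ ({b, C.neg b} : Set ι), ∀ t u,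
      Commute (ρ.x r t) (ρ.x s u) := fun r hr s hs t u => by
    have h1 : C.A r s = 0 := by
      rcases hr with rfl | rfl <;> rcases hs with rfl | rfl <;> simp [H.orth _ ha _ hb e]
    have h2 : ∀ v, C.A r v = 2 → v = r := by
      rcases hr with rfl | rfl
      · exact H.two _ ha
      · exact fun v hv => C.neg_eq_iff.1 (H.two _ ha _ (by simpa using hv))
    refine ρ.commute_of_none (fun e => by simp [e] at h1) (fun v hv => ?_) t u
    rw [h2 v (by rw [C.A_def, hv, map_add, ← C.A_def, ← C.A_def, h1]; simp)] at hv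
    exact C.vec_ne_zero s (by simpa using hv)
  refine ρ.U_le_iff.2 fun r hr t z hz => mem_centralizer_singleton_iff.1 (ρ.U_le_iff.2 ?_ hz)
  exact fun s hs u => mem_centralizer_singleton_iff.2 (k r hr s hs t u).symm

theorem rv_h (t : Kˣ) (a r : ι) : rv C (fun i => t ^ C.cov a i) r = t ^ C.A a r := by
  rw [rv_zp, pr_cov, C.A_def]

theorem tor_ext (h : ρ.IsAdj) {c c' : B → Kˣ} (e : ∀ r, rv C c r = rv C c' r) :
    h.r3.tor c = h.r3.tor c' := by
  refine h.eq_of_actsT (h.r3.actsT_tor c) ?_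
  rw [show C.torChar c = C.torChar c' from mul_inv_eq_one.1 (C.char_eq_one_of_simple fun i => by
    simpa [rv, mul_inv_eq_one] using e (C.simple i))]
  exact h.r3.actsT_tor c'

theorem rv_of_tor (h : ρ.IsAdj) {c c' : B → Kˣ} (e : h.r3.tor c = h.r3.tor c') (r : ι) :
    rv C c r = rv C c' r := by
  rw [rv, rv, (h.r3.actsT_tor c).eq h.faithful (e ▸ h.r3.actsT_tor c')]

theorem ord_neg (h2 : (2 : K) ≠ 0) : orderOf (-1 : Kˣ) = 2 := orderOf_eq_prime (by simp) fun e => h2 (by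
  simpa [neg_eq_iff_add_eq_zero, one_add_one_eq_two] using congrArg Units.val e)

theorem Fr.mem_H (H : Fr C S) (h : ρ.IsAdj) {i : Kˣ} (hi : orderOf i = 4) {g : G}
    (hg : ∀ a ∈ S, g * ρ.h a i * g⁻¹ = ρ.h a i) : g ∈ ρ.H := by
  obtain ⟨w, u, hu, n, hn, u', hu', rfl⟩ := exists_unu h.gp g
  have k := fun a ha => conj_H_decomp h.faithful hu hn hu' (ρ.h_mem_H a i) (ρ.h_mem_H a i) (hg a ha)
  have k1 : ∀ {T : Set ι} {v : G}, C.Closed T → (∀ r ∈ T, C.Pos r) → v ∈ ρ.U T →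
      (∀ a ∈ S, ρ.h a i * v * (ρ.h a i)⁻¹ = v) → v = 1 := fun {T v} h1 h2 h3 h4 => by
    have := mem_U_of_conj h.faithful h.r3 h1 h2 h3 (T := (fun a j => i ^ C.cov a j) '' S) (by
      rintro _ ⟨a, ha, rfl⟩; rw [← h.r3.h_eq_tor]; exact h4 a ha)
    refine mem_bot.1 (ρ.U_empty ▸ ρ.U_mono (fun r hr => ?_) this)
    obtain ⟨a, ha, e⟩ := H.cov r
    have h5 := hr.2 _ ⟨a, ha, rfl⟩
    rw [rv_h, ← orderOf_dvd_iff_zpow_eq_one, hi] at h5
    have := C.A_le_three a r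
    have := C.A_le_three a (C.neg r)
    rw [C.A_neg_right] at this
    omega
  rw [k1 C.closed_pos (fun _ h => h) hu fun a ha => (k a ha).1, k1 (C.closed_pos_neg hn.mem_Aut)
    (fun _ h => h.1) hu' fun a ha => (k a ha).2.2, one_mul, mul_one]
  have h1 : ∀ a ∈ S, w a = a := fun a ha => by
    have h1 := (k a ha).2.1
    rw [h.r3.conj_h hn.acts, h.r3.h_eq_tor, h.r3.h_eq_tor] at h1
    have h2 : ∀ r, (4 : ℤ) ∣ C.A (w a) r - C.A a r := fun r => by
      have := rv_of_tor h h1 r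
      rw [rv_h, rv_h, ← mul_inv_eq_one, ← zpow_sub, ← orderOf_dvd_iff_zpow_eq_one, hi] at this
      exact this
    by_contra h3
    by_cases h4 : w a = C.neg a
    · obtain ⟨r, hr⟩ := H.odd a ha
      have := h2 r
      rw [h4, C.A_neg_left] at this
      omega
    have := C.abs_A_le_of_len (RootSys.len_aut hn.mem_Aut a).symm h3 h4
    have := h2 (w a)
    rw [C.A_self] at this
    omega
  obtain ⟨y, hy⟩ := exists_reg H.cov
  have h2 : ∀ r, (∑ a ∈ S, y a • C.cor a) (C.vec r) = ∑ a ∈ S, y a * C.A a r := fun r => by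
    simp [C.A_def]
  obtain rfl := eq_one_of_reg hn.mem_W (φ := ∑ a ∈ S, y a • C.cor a) (fun r => h2 r ▸ hy r) fun r => by
    rw [h2, h2]
    exact Finset.sum_congr rfl fun a ha => by rw [← RootSys.A_aut hn.mem_Aut a r, h1 a ha]
  exact hn.mem_H

theorem Fr.mem_of (H : Fr C S) (h : ρ.IsAdj) {i : Kˣ} (hi : orderOf i = 4) (h2 : (2 : K) ≠ 0) {g : G}
    (hg : ∀ a ∈ S, g * ρ.h a i * g⁻¹ = ρ.h a i) (hn : ∀ a ∈ S, ∃ t, g * ρ.n a t * g⁻¹ = ρ.n a t)
    (e : g ^ 2 = 1) {Z : Subgroup G} (hZ : ∀ a ∈ S, ρ.h a (-1) ∈ Z) : g ∈ Z := by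
  obtain ⟨c, rfl⟩ := h.r3.range_tor.ge (H.mem_H h hi hg)
  have h3 : ∀ r, rv C c r ^ 2 = 1 := ev_pow_eq_one h.faithful (h.r3.actsT_tor c) e
  have h4 : ∀ {x : Kˣ}, x ^ 2 = 1 → x ≠ 1 → x = -1 := fun {x} h1 h3 =>
    Units.ext ((sq_eq_one_iff.1 (congrArg Units.val h1)).resolve_left fun e => h3 (Units.ext e))
  obtain ⟨e, he⟩ := exists_Sg h2 h3
  obtain ⟨y, hy⟩ := H.good e fun a ha => he ▸ by_contra fun k => by
    obtain ⟨t, ht⟩ := hn a ha
    obtain ⟨r, hr⟩ := H.odd a ha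
    rw [(h.r3.actsT_tor c).conj_n, show (C.torChar c).ev _ = -1 from h4 (h3 a) k, ρ.n_eq_h_mul,
      ρ.n_eq_h_mul a t, mul_left_inj, ← h.r3, mul_eq_right, h.r3.h_eq_tor, ← map_one h.r3.tor] at ht
    have := rv_of_tor h ht r
    rw [rv_h, show rv C (1 : B → Kˣ) r = 1 by simp [rv], ← orderOf_dvd_iff_zpow_eq_one, ord_neg h2] at this
    omega
  rw [tor_ext h (c' := ∏ a ∈ S, (fun j => (-1) ^ C.cov a j) ^ y a) fun r => ?_]
  · exact (Z.comap h.r3.tor).prod_mem fun a ha => zpow_mem (by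
      rw [mem_comap, ← h.r3.h_eq_tor]; exact hZ a ha) _
  have h5 : rv C (∏ a ∈ S, (fun j => (-1 : Kˣ) ^ C.cov a j) ^ y a) r = (-1) ^ ∑ a ∈ S, y a * C.A a r := by
    rw [zpow_sum']
    simp only [mul_comm (y _), zpow_mul, ← rv_h]
    simp [rv, Char.ev]
  have h6 := hy r
  rw [← he, show (2 : ℤ) = (2 : ℕ) from rfl, ← ord_neg h2, orderOf_dvd_iff_zpow_eq_one, ← h5] at h6
  by_cases h7 : rv C c r = 1
  · exact h7.trans (h6.1 h7).symm
  · exact (h4 (h3 r) h7).trans (h4 (by rw [h5, ← zpow_natCast, ← zpow_mul, mul_comm, zpow_mul]; simp)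
      (h6.not.1 h7)).symm

end CF.TC
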