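import Cfsg.Agent.TC.A

/-! Frames of quaternion groups in the fixed points of a Frobenius map. -/

set_option autoImplicit false

namespace CF.TC

open Subgroup CF.Chev CF.BN CF.KB CF.KI Matrix
open scoped commutatorElement MatrixGroups

theorem exists_quat {k : Type*} [Field k] (h2 : (2 : k) ≠ 0) {x y : k} (h : x ^ 2 + y ^ 2 = -1) :
    ∃ a ∈ commutator SL(2, k), ∃ b ∈ commutator SL(2, k),
      a.1 = !![x, y; y, -x] ∧ b.1 = !![0, 1; -1, 0] := by
  obtain ⟨c, hc⟩ : ∃ c : k, 2 * c = 1 := ⟨_, mul_inv_cancel₀ h2⟩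
  let a : SL(2, k) := ⟨!![x, y; y, -x], by rw [det_fin_two_of]; linear_combination -h⟩
  let b : SL(2, k) := ⟨!![0, 1; -1, 0], by simp [det_fin_two_of]⟩
  let w : SL(2, k) := ⟨!![c * (1 + x - y), c * (1 + x + y); c * (x + y - 1), c * (1 - x + y)], by
    rw [det_fin_two_of]; linear_combination (-2 * c ^ 2) * h + (2 * c + 1) * hc⟩
  have h1 : w * a = b * w := Subtype.ext (show w.1 * a.1 = b.1 * w.1 by
    ext i j
    fin_cases i <;> fin_cases j <;> simp [w, a, b, mul_apply, Fin.sum_univ_two] <;>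
      first | linear_combination c * h | linear_combination -c * h)
  have h3 : w * b = a * b * w := Subtype.ext (show w.1 * b.1 = a.1 * b.1 * w.1 by
    ext i j
    fin_cases i <;> fin_cases j <;> simp [w, a, b, mul_apply, Fin.sum_univ_two] <;>
      first | linear_combination c * h | linear_combination -c * h)
  have h4 : a ∈ commutator SL(2, k) := by
    rw [show a = ⁅w, b⁆ by rw [commutatorElement_def, h3]; group]
    exact commutator_mem_commutator trivial trivial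
  exact ⟨a, h4, b, eq_mul_inv_of_mul_eq h1.symm ▸ Normal.conj_mem inferInstance a h4 w, rfl, rfl⟩

variable {B ι : Type} [Fintype B] [DecidableEq B] [Fintype ι] [DecidableEq ι]
  {C : ChevBasis B ι} {K : Type*} [Field K] {G : Type*} [Group G]
  {ρ : StRep C K G} {π : Equiv.Perm ι} {S : Finset ι} {a b : ι} {i : Kˣ} {x y g : G}

theorem h_neg_mem (ρ : StRep C K G) (a : ι) : ρ.h a (-1) ∈ centralizer (Lr ρ a : Set G) :=
  fun _ hz => mem_centralizer_singleton_iff.1 (ρ.U_le_iff.2 (fun r hr t => by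
    rw [mem_centralizer_singleton_iff, eq_comm, ← mul_inv_eq_iff_eq_mul, ρ.h_conj_x]
    rcases hr with rfl | rfl <;> simp [zpow_ofNat]) hz)

variable (ρ) in
/-- A quaternion group which is conjugate to the standard one. -/
structure Q8 (a : ι) (i : Kˣ) (x y g : G) : Prop where
  xm : x ∈ Lr ρ a
  ym : y ∈ Lr ρ a
  gm : g ∈ Lr ρ a
  hx : g * x * g⁻¹ = ρ.h a i
  hy : ∃ t, g * y * g⁻¹ = ρ.n a t

namespace Q8

variable (Q : Q8 ρ a i x y g) (h : ρ.R3) (hi : i ^ 2 = -1)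
include Q h hi

omit hi in
theorem yx : y * x * y⁻¹ = x⁻¹ := by
  obtain ⟨t, ht⟩ := Q.hy
  have := h.conj_h (StRep.acts_n a t) a i
  rw [h.h_refl, h, C.A_self, show i * i ^ (-2 : ℤ) = i⁻¹ by group, ← h.h_inv, ← ht, ← Q.hx] at this
  simpa [mul_assoc] using congrArg (fun z => g⁻¹ * z * g) this

theorem xx : x ^ 2 = ρ.h a (-1) := by
  have h1 := h_neg_mem ρ a g Q.gm
  have h2 : g * x ^ 2 * g⁻¹ = ρ.h a (-1) := by rw [← conj_pow, Q.hx, sq, h, ← sq, hi]
  rw [mul_inv_eq_iff_eq_mul, ← h1] at h2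
  exact mul_left_cancel h2

theorem x4 : x ^ 4 = 1 := by
  rw [show 4 = 2 * 2 from rfl, pow_mul, Q.xx h hi, sq, h]; simp

theorem cm : ⁅x, y⁆ = ρ.h a (-1) := by
  rw [← Q.xx h hi, commutatorElement_def, sq, mul_assoc, mul_assoc, ← mul_assoc y, ← conj_inv,
    Q.yx h, inv_inv]

omit hi in
theorem y4 : y ^ 4 = 1 := by
  obtain ⟨t, ht⟩ := Q.hy
  rw [← conj_eq_one_iff (a := g), ← conj_pow, ht, show 4 = 2 * 2 from rfl, pow_mul, sq (ρ.n a t),
    ρ.n_mul_n, h.h_inv, h, sq, h]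
  simp [mul_comm t]

end Q8

theorem exists_q8 [IsAlgClosed K] {p : ℕ} [Fact p.Prime] [CharP K p] (hp : p ≠ 2) (h : ρ.R3)
    {F : MulAut G} {f : ℕ} (hf : 0 < f) (D : Mon ρ F.toMonoidHom π (iterateFrobenius K p f))
    (ha : π a = a) (hi : i ^ 2 = -1) :
    ∃ x ∈ ⁅Fx F, Fx F⁆, ∃ y ∈ ⁅Fx F, Fx F⁆, ∃ g, Q8 ρ a i x y g := by
  obtain ⟨hπ, c, h1, h2⟩ := D
  obtain ⟨φ, h3, h4, h5, h6, h7⟩ := h.exists_hom_sl2 a
  have hq : 1 < p ^ f := Nat.one_lt_pow hf.ne' (Fact.out : p.Prime).one_lt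
  obtain ⟨σ, hσ⟩ : ∃ σ : Kˣ, c a * (σ ^ 2) ^ p ^ f = σ ^ 2 := by
    obtain ⟨s, hs⟩ := IsAlgClosed.exists_pow_nat_eq ((c a)⁻¹ : Kˣ).1 (n := 2 * (p ^ f - 1)) (by omega)
    have h0 : s ≠ 0 := by
      rintro rfl; rw [zero_pow (by omega)] at hs; exact Units.ne_zero _ hs.symm
    refine ⟨.mk0 s h0, Units.ext ?_⟩
    obtain ⟨n, hn⟩ : ∃ n, p ^ f = n + 1 := ⟨p ^ f - 1, by omega⟩
    simp [hn, pow_succ _ n, ← pow_mul, show s ^ (2 * n) = _ by simpa [hn] using hs]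
  let j := ZMod.castHom (dvd_refl p) K
  let ψ := (MulAut.conj (ρ.h a σ)).toMonoidHom.comp (φ.comp (SpecialLinearGroup.map j))
  have hj : ∀ t, j t ^ p ^ f = j t := fun t => by rw [← map_pow, ZMod.pow_card_pow]
  have hm : ∀ r t, SpecialLinearGroup.map j (sl2x _ r t) = sl2x _ r (j t) := fun r t => Subtype.ext (by
    cases r <;> ext u v <;> fin_cases u <;> fin_cases v <;> simp [val_sl2x_true, val_sl2x_false])
  have h8 : ψ.range ≤ Fx F := by
    rw [MonoidHom.range_eq_map, map_le_iff_le_comap, ← sl2Rep_Gp]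
    refine (PreSt.U_le_iff _).2 fun r _ t => (?_ : F _ = _)
    have h2 : ∀ r t, F (ρ.x r t) = ρ.x (π r) (c r * t ^ p ^ f) := h2
    have k := congrArg Units.val hσ
    cases r <;> simp only [ψ, sl2Rep_x, MonoidHom.comp_apply, hm, h4, h5, MulEquiv.coe_toMonoidHom,
      MulAut.conj_apply, ρ.h_conj_x, h2, RootSys.neg_aut hπ, ha, h1, mul_pow, hj] <;> congr 1
    · rw [← mul_assoc]; congr 1
      simpa [zpow_ofNat, mul_comm] using congrArg (·⁻¹) k
    · simp [zpow_ofNat, ← mul_assoc] at k ⊢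
      exact .inl k
  have h9 : ∀ z ∈ commutator SL(2, ZMod p), ψ z ∈ ⁅Fx F, Fx F⁆ := fun z hz => by
    have := mem_map_of_mem ψ hz
    rw [map_commutator_eq] at this
    exact commutator_mono h8 h8 this
  have h10 : ∀ z, φ z ∈ Lr ρ a := fun z => by
    rw [Lr, ← Set.singleton_union, ρ.U_union, ρ.U_singleton, ρ.U_singleton, ← h3]; exact ⟨z, rfl⟩
  have hs := ρ.h_mem_U (S := {a, C.neg a}) (r := a) (by simp) (by simp) σ
  have h11 : ∀ z, ψ z ∈ Lr ρ a := fun z => mul_mem (mul_mem hs (h10 _)) (inv_mem hs)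
  obtain ⟨x, y, hxy⟩ := ZMod.sq_add_sq p (-1)
  obtain ⟨u, h12, v, h13, h14, h15⟩ := exists_quat (Ring.two_ne_zero (by rwa [ZMod.ringChar_zmod_n])) hxy
  replace hxy : j x ^ 2 + j y ^ 2 = -1 := by simpa using congrArg j hxy
  replace hi : (i : K) ^ 2 = -1 := by simpa using congrArg Units.val hi
  have h16 : (2 : K) ≠ 0 := Ring.two_ne_zero (ringChar.eq K p ▸ hp)
  obtain ⟨l, hl⟩ : ∃ l : K, 2 * i * l = 1 := ⟨_, mul_inv_cancel₀ (mul_ne_zero h16 i.ne_zero)⟩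
  let P : SL(2, K) := ⟨!![1, -i; l, i * l], by rw [det_fin_two_of]; linear_combination hl⟩
  let t : Kˣ := ⟨2 * i * (j x - i * j y), -l * (j x + i * j y), by
    linear_combination (-(j x ^ 2 + j y ^ 2)) * hl - hxy + 2 * i * l * j y ^ 2 * hi, by
    linear_combination (-(j x ^ 2 + j y ^ 2)) * hl - hxy + 2 * i * l * j y ^ 2 * hi⟩
  have h17 : ∀ z w, P * SpecialLinearGroup.map j z = w * P →
      φ P * (ρ.h a σ)⁻¹ * ψ z * (φ P * (ρ.h a σ)⁻¹)⁻¹ = φ w := fun z w e => by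
    rw [← mul_inv_eq_iff_eq_mul.2 e]; simp [ψ, mul_assoc]
  have h18 : ((i⁻¹ : Kˣ) : K) = -i := by
    rw [Units.val_inv_eq_inv_val]; exact inv_eq_of_mul_eq_one_right (by linear_combination -hi)
  refine ⟨ψ v, h9 v h13, ψ u, h9 u h12, φ P * (ρ.h a σ)⁻¹, h11 v, h11 u, mul_mem (h10 P) (inv_mem hs),
    (h17 _ _ (Subtype.ext ?_)).trans (h7 i), t, (h17 _ _ (Subtype.ext ?_)).trans (h6 t)⟩
  · change P.1 * j.mapMatrix v.1 = ((sl2Rep K).h true i).1 * P.1
    rw [val_sl2_h_true, h18, h15]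
    ext r s
    fin_cases r <;> fin_cases s <;> simp [P, mul_apply, Fin.sum_univ_two]
    · linear_combination hi
    · linear_combination l * hi
  · change P.1 * j.mapMatrix u.1 = ((sl2Pre K).n true t).1 * P.1
    rw [val_sl2_n_true, h14]
    ext r s
    fin_cases r <;> fin_cases s <;> simp [P, t, mul_apply, Fin.sum_univ_two]
    · linear_combination (-(j x - i * j y)) * hl
    · linear_combination (-(i * j x + j y)) * hl + 2 * i * l * j y * hi
    · ring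
    · linear_combination l * j y * hi

/-- Groups between the fixed points of a map and their commutator subgroup. -/
structure Md (F : MulAut G) {Y : Type*} [Group Y] (κ : Y →* G) : Prop where
  inj : Function.Injective κ
  le : κ.range ≤ Fx F
  cm : ⁅Fx F, Fx F⁆ ≤ κ.range

variable [IsAlgClosed K] {h : ρ.IsAdj} {p : ℕ} [Fact p.Prime] [CharP K p] {F : MulAut G} {f : ℕ}
  {Y : Type*} [Group Y] {κ : Y →* G}

omit [Fact p.Prime] in
theorem exists_i (hp : p ≠ 2) : ∃ i : Kˣ, i ^ 2 = -1 ∧ orderOf i = 4 := by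
  obtain ⟨i, hi⟩ := IsAlgClosed.exists_pow_nat_eq (-1 : K) two_pos
  have h0 : i ≠ 0 := by rintro rfl; simp at hi
  have h1 : Units.mk0 i h0 ^ 2 = -1 := Units.ext hi
  have := ord_neg (Ring.two_ne_zero (ringChar.eq K p ▸ hp) : (2 : K) ≠ 0)
  refine ⟨_, h1, orderOf_eq_prime_pow (p := 2) (n := 1) (fun e => ?_) ?_⟩
  · rw [pow_one, h1] at e; simp [e] at this
  · rw [show 2 ^ (1 + 1) = 2 * 2 from rfl, pow_mul, h1]; simp

theorem tc_frame [Finite Y] (D : FD h p F π f) (hp : p ≠ 2) (M : Md F κ) (H : Fr C S)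
    (hS : ∀ a ∈ S, π a = a) : Tc Y := by
  obtain ⟨i, h1, h2⟩ := exists_i (K := K) hp
  choose! x h3 y h4 g h5 using fun a ha => exists_q8 hp h.r3 D.pos D.mon (hS a ha) h1
  choose! x h3 using fun a ha => M.cm (h3 a ha)
  choose! y h4 using fun a ha => M.cm (h4 a ha)
  replace h5 : ∀ a ∈ S, Q8 ρ a i (κ (x a)) (κ (y a)) (g a) := fun a ha => h3 a ha ▸ h4 a ha ▸ h5 a ha
  clear h3 h4
  have h6 : ∀ a ∈ S, closure {x a, y a} ≤ (Lr ρ a).comap κ := fun a ha => (closure_le _).2 (by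
    rintro _ (rfl | rfl); exacts [(h5 a ha).xm, (h5 a ha).ym])
  have h7 : ∀ a ∈ S, x a ∈ ⨆ a ∈ S, closure {x a, y a} ∧ y a ∈ ⨆ a ∈ S, closure {x a, y a} :=
    fun a ha => ⟨mem_iSup_of_mem a (mem_iSup_of_mem ha (subset_closure (by simp))),
      mem_iSup_of_mem a (mem_iSup_of_mem ha (subset_closure (by simp)))⟩
  refine tc_of (isPGroup_iSup S (fun a => closure {x a, y a}) (fun a ha => isPGroup_closure
    (M.inj (by simpa using (h5 a ha).x4 h.r3 h1)) (M.inj (by simpa using (h5 a ha).y4 h.r3))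
    (M.inj (by simpa using (h5 a ha).yx h.r3))) fun a ha b hb e u hu v hv => M.inj (by
      simpa using H.comm ha hb e (h6 a ha hu) _ (h6 b hb hv))) fun u h8 h9 => ?_
  generalize ⨆ a ∈ S, closure {x a, y a} = R at h7 h9 ⊢
  obtain ⟨k, h10, h11⟩ := exists_conj_all S (Lr ρ) g (fun a ha => (h5 a ha).gm) fun _ ha _ hb =>
    H.comm ha hb
  have h12 : ∀ z ∈ R, k * κ u * k⁻¹ * (k * κ z * k⁻¹) * (k * κ u * k⁻¹)⁻¹ = k * κ z * k⁻¹ :=
    fun z hz => by
    rw [conj_mul, ← map_mul, ← mem_centralizer_singleton_iff.1 (h9 hz), map_mul]; group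
  obtain ⟨v, h13, h14⟩ := H.mem_of h h2 (Ring.two_ne_zero (ringChar.eq K p ▸ hp)) (g := k * κ u * k⁻¹)
    (fun a ha => by simpa only [h11 a ha _ (h5 a ha).xm, (h5 a ha).hx] using h12 _ (h7 a ha).1)
    (fun a ha => (h5 a ha).hy.imp fun t ht => by
      simpa only [h11 a ha _ (h5 a ha).ym, ht] using h12 _ (h7 a ha).2)
    (by rw [conj_pow, ← map_pow, h8]; simp) (Z := ⁅R, R⁆.map ((MulAut.conj k).toMonoidHom.comp κ))
    fun a ha => ⟨_, commutator_mem_commutator (h7 a ha).1 (h7 a ha).2, by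
      have := ρ.h_mem_U (S := {a, C.neg a}) (r := a) (by simp) (by simp) (-1)
      simp only [MonoidHom.comp_apply, map_commutatorElement κ, (h5 a ha).cm h.r3 h1,
        MulEquiv.coe_toMonoidHom, MulAut.conj_apply]
      rw [h11 a ha _ this, h_neg_mem ρ a _ (h5 a ha).gm, mul_inv_cancel_right]⟩
  exact M.inj ((MulAut.conj k).injective h14) ▸ h13

theorem tc_nd [Nonempty B] (D : FD h p F π f) {k : ℕ} (hK : Big K k)
    (hk : Fintype.card ι + Fintype.card B ≤ k) (hp : p ≠ 2) (h3 : T3 C) (M : Md F κ)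
    (H : ∀ e, ∀ w ∈ C.W, (∃ r, r ∉ Sg C e) → (∀ r ∈ Sg C e, (w * π) r ∈ Sg C e) →
      (∀ r ∈ Sg C e, C.Pos ((w * π) r) ↔ C.Pos r) →
      ∃ a, (w * π) a = a ∧ ∀ r, r ∈ Sg C e ↔ 2 ∣ C.A a r) : Tc Y := fun u h1 _ => by
  rcases eq_or_ne u 1 with rfl | h2
  · exact one_mem _
  obtain ⟨F', w, hw, c, z, N, h5, h6⟩ := D.normal hK hk hp.symm h3 (M.le ⟨u, rfl⟩)
    ((orderOf_injective κ M.inj u).trans (orderOf_eq_prime h1 h2))
  have h0 : (2 : K) ≠ 0 := Ring.two_ne_zero (ringChar.eq K p ▸ hp)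
  obtain ⟨e, he⟩ := exists_Sg h0 N.sq
  obtain ⟨a, h7, h8⟩ := H e w hw (he ▸ N.ne) (he ▸ N.mem) (he ▸ N.pos_iff)
  obtain ⟨i, h9, -⟩ := exists_i (K := K) hp
  obtain ⟨x, h10, y, h11, g, Q⟩ := exists_q8 hp h.r3 N.pos N.mon h7 h9
  have h4 : ∀ {x : Kˣ}, x ^ 2 = 1 → x ≠ 1 → x = -1 := fun {x} h1 h3 =>
    Units.ext ((sq_eq_one_iff.1 (congrArg Units.val h1)).resolve_left fun e => h3 (Units.ext e))
  have h12 : h.r3.tor c = ρ.h a (-1) := by
    rw [h.r3.h_eq_tor]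
    refine tor_ext h fun r => ?_
    have h6 := h8 r
    rw [← he, show (2 : ℤ) = (2 : ℕ) from rfl, ← ord_neg h0, orderOf_dvd_iff_zpow_eq_one] at h6
    rw [rv_h]
    by_cases h7 : rv C c r = 1
    · exact h7.trans (h6.1 h7).symm
    · exact (h4 (N.sq r) h7).trans (h4 (by
        rw [← zpow_natCast, ← _root_.zpow_mul, mul_comm, _root_.zpow_mul]; simp)
        (h6.not.1 h7)).symm
  have h13 : ∀ x ∈ ⁅Fx F', Fx F'⁆, x ∈ Lr ρ a → ∃ v ∈ centralizer {u}, κ v = z * x * z⁻¹ :=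
    fun x hx hx' => by
    have h13 : (Fx F').map (MulAut.conj z).toMonoidHom ≤ Fx F := by
      rintro _ ⟨g, hg, rfl⟩
      exact (h6 g).trans (congrArg (z * · * z⁻¹) hg)
    have := mem_map_of_mem (MulAut.conj z).toMonoidHom hx
    rw [map_commutator] at this
    obtain ⟨v, hv⟩ := M.cm (commutator_mono h13 h13 this)
    refine ⟨v, mem_centralizer_singleton_iff.2 (M.inj ?_), hv⟩
    rw [map_mul, map_mul, hv, h5, h12]
    simpa [mul_assoc] using congrArg (· * z⁻¹) (h_neg_mem ρ a x hx')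
  obtain ⟨v, h14, h15⟩ := h13 x h10 Q.xm
  obtain ⟨v', h16, h17⟩ := h13 y h11 Q.ym
  convert commutator_mem_commutator h14 h16
  exact M.inj (by rw [map_commutatorElement, h15, h17, h5, h12, ← Q.cm h.r3 h9]; group)

end CF.TC
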