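import Cfsg.Agent.TC.B

/-! From finite models to the algebraic group. -/

set_option autoImplicit false

namespace CF.TC

open Cfsg CF.Chev CF.BN CF.KB CF.KI
open scoped commutatorElement

variable {B ι : Type} [Fintype B] [DecidableEq B] [Fintype ι] [DecidableEq ι]
  {C : ChevBasis B ι} {p : ℕ} [Fact p.Prime]

universe u

theorem lt_elim {F : Type u} [Field F] [Fintype F] {X : Type*} [Group X]
    {ρ0 : StRep C F X} {T : Tw ρ0} {G1 : Subgroup X} (M : LT p T G1 1) (h0 : ρ0.IsAdj)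
    {f m : ℕ} (hF : Fintype.card F = p ^ (f * m)) (hφ : ∀ r t, T.φ r t = t ^ p ^ f)
    (hm : ∀ g, T.σ^[m] g = g) {P : Prop} (H : ∀ (K : Type u) [Field K] [IsAlgClosed K] [CharP K p]
      (G : Type u) [Group G] (ρ : StRep C K G) (h : ρ.IsAdj) (Φ : MulAut G) (κ : G1 →* G),
      FD h p Φ T.π f → Big K (Fintype.card ι + Fintype.card B) → Md Φ κ → P) : P := by
  obtain ⟨K, _, i, hB⟩ := exists_big F (Fintype.card ι + Fintype.card B)
  have := hB.1
  have := M.char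
  have := charP_of_injective_ringHom i.injective p
  have := M.ne
  have h := StRep.isAdj_adRes (C := C) (K := K)
  generalize (C.adSt K).res = ρ at h
  have hf := f_pos hF
  have h1 : ∀ r j, C.vec (T.π r) (T.p j) = C.vec r j := fun r j => by simpa using! M.compat r j
  have h2 : T.p ∈ C.Sym := fun j k => by
    have := h1 (C.refl (C.simple j) (C.simple k)) j
    simpa [T.π_refl, T.π_simple, C.vec_refl, C.vec_simple, Pi.single_apply, C.A_simple_simple,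
      -RootSys.refl_simple] using this
  obtain ⟨γ, hγ⟩ := GrT.exists (r := p) h M.conn (e := 0) (.inl ⟨h2, rfl⟩)
  let a : B → Kˣ := fun j => um i (T.c (C.simple (T.p.symm j)))
  have h4 : IsFr h p (MulAut.conj (tA h a) * (γ * fr h p ^ f)) :=
    (SF.isFr h hγ (Nat.pos_of_mul_pos_right hf)).conj ⟨_, hf, by
      rw [fr_tA]
      exact congrArg _ (funext fun j => Units.ext ((mem_iff i hF).2 ⟨_, rfl⟩))⟩
  have h5 : ρ.Std (MulAut.conj (tA h a) * (γ * fr h p ^ f)) T.p (a ∘ T.p) fun _ => Fz K p f :=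
    ⟨fun j t => by simp [fr_pow_x, hγ.pos, actsT_tA h a _ _, charOf_simple, Fz_nat],
      fun j t => by simp [fr_pow_x, hγ.neg, actsT_tA h a _ _, charOf_simple, Fz_nat, C.vec_neg,
        Char.ev_neg]⟩
  generalize MulAut.conj (tA h a) * (γ * fr h p ^ f) = Φ at h4 h5
  obtain ⟨T', h6, h7, -, -, h8⟩ := exists_tw h h5
  have h9 : ∀ g, T'.σ g = Φ g := fun g => by rw [h6]; rfl
  have h10 : T'.π = T.π := Equiv.ext fun r => C.vec_inj (funext fun j => by
    obtain ⟨j, rfl⟩ := T.p.surjective j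
    simpa [h7, h1, Tw.S] using! compat_one (S := T'.S) (show T'.p ∈ C.Sym from h7 ▸ h2) r j)
  have h11 : ∀ r t, Φ (ρ.x r t) = ρ.x (T.π r) (T'.c r * t ^ p ^ f) := fun r t => by
    rw [← h9, T'.σ_x, h10, (h8 r).choose_spec]; exact congrArg (ρ.x _ <| _ * ·) (Fz_nat f t)
  have D : FD h p Φ T.π f := ⟨h4, Nat.pos_of_mul_pos_right hf, mem_Aut_of_sym M.conn h2 h1, T'.c,
    T'.c_neg, h11⟩
  have h12 : ∀ g, Φ (fa h0 h i g) = fa h0 h i (T.σ g) := DFunLike.congr_fun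
    (StRep.hom_ext_simple h0.gp (f := Φ.toMonoidHom.comp (fa h0 h i)) (g := (fa h0 h i).comp T.σ)
      (fun j t => by simp [fa_x, h5.pos, T.σ_x, T.π_simple, hφ, a, Fz_nat])
      fun j t => by simp [fa_x, h5.neg, T.σ_x, T.π_simple, T.π_neg, T.c_neg, hφ, a, Fz_nat])
  have h13 : ∀ k r, ∃ d : Kˣ, ∀ t, Φ^[k] (ρ.x r t) = ρ.x ((T.π ^ k) r) (d * t ^ p ^ (f * k)) :=
    fun k r => by
    induction' k with k ih
    · exact ⟨1, by simp⟩
    obtain ⟨d, hd⟩ := ih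
    exact ⟨T'.c ((T.π ^ k) r) * d ^ p ^ f, fun t => by
      simp [Function.iterate_succ_apply', hd, h11, pow_succ', mul_pow, ← pow_mul, mul_add, pow_add,
        mul_assoc]⟩
  have h14 : ∀ r t, Φ^[m] (ρ.x r t) = ρ.x r (t ^ p ^ (f * m)) := fun r t => by
    obtain ⟨d, hd⟩ := h13 m r
    have := (hd 1).symm.trans (show _ = ρ.x r 1 by
      rw [← map_one i, ← fa_x h0 h,
        ← (Function.Semiconj.iterate_right (fun g => (h12 g).symm) m).eq, hm])
    have e := Tw.eq_of_x_eq h.faithful (by simp) this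
    rw [e] at this hd
    rw [hd, show (d : K) = 1 by simpa using x_inj h.faithful this, one_mul]
  have h15 : ∀ g ∈ ρ.Up ⊓ T'.Fix, ∃ u ∈ ρ0.Up ⊓ T.Fix, fa h0 h i u = g := fun g hg => by
    obtain ⟨t, -, rfl⟩ := exists_Lp C.closed_pos (fun _ h => h) hg.1
    have h15 := fh_prodL (θ := (Φ ^ m).toMonoidHom) (τ := iterateFrobenius K p (f * m))
      (ρ := ρ) (ρ' := ρ) (fun r t => (smul_iterate_apply Φ m _).symm.trans (h14 r t)) (Lp C) t
    rw [show (Φ ^ m).toMonoidHom _ = _ from pow_fix ((h9 _).symm.trans hg.2) m] at h15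
    choose! s hs using fun r (hr : C.Pos r) => (mem_iff i hF).1 (Lp_inj h.faithful h15 hr).symm
    have h16 : fa h0 h i (ρ0.prodL (Lp C) s) = ρ.prodL (Lp C) t :=
      (fh_prodL (fa_x h0 h i) _ s).trans (ρ.prodL_congr fun r hr => hs r (mem_Lp.1 hr))
    exact ⟨_, im (Lp_mem_Up s) (fa_injective h0 h i (by
      rw [← h12, h16, ← h9]; exact hg.2.trans h16.symm)), h16⟩
  have h16 : ∀ g ∈ T.Fix, fa h0 h i g ∈ T'.Fix := fun g hg =>
    (h9 _).trans ((h12 g).trans (congrArg _ hg))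
  have h17 : T'.Form T'.Fix := ⟨le_rfl, fun _ => inf_le_right, fun j => by
    obtain ⟨v, a1, a2, a3⟩ := M.form.neg j
    refine ⟨_, h16 v (M.form.fix a1), ?_, (map_eq_one_iff _ (fa_injective h0 h i)).not.2 a3⟩
    exact (show T.S.orb j = T'.S.orb j from congrArg ({k | Equiv.Perm.SameCycle · j k}) h7.symm) ▸
      fh_mem_U (fa_x h0 h i) a2⟩
  refine H K _ ρ h Φ ((fa h0 h i).comp G1.subtype) D hB
    ⟨(fa_injective h0 h i).comp Subtype.val_injective, ?_, ?_⟩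
  · rintro _ ⟨g, rfl⟩
    exact (h9 _).symm.trans (h16 g (M.form.fix g.2))
  rw [show Fx Φ = T'.Fix by rw [Tw.Fix, h6]]
  refine (comm_le_gen h17 h.r3).trans (sup_le (fun g hg => ?_) fun g hg => ?_)
  · obtain ⟨u, hu, rfl⟩ := h15 g hg
    exact ⟨⟨u, M.form.Up_le hu⟩, rfl⟩
  obtain ⟨z, a1, y, a2, l, rfl, a3⟩ := M.form.exists_n0
  have a4 : ρ.NW (fa h0 h i (y * ρ0.nw l)) _ := ⟨_, (ρ0.H_le_iff (Z := ρ.H.comap (fa h0 h i))).2
    (fun r t => Subgroup.mem_comap.2 (fh_h (fa_x h0 h i) r t ▸ ρ.h_mem_H _ _)) a2, l,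
    by rw [map_mul, fh_nw (fa_x h0 h i)], a3⟩
  have a5 := h16 _ (M.form.fix a1)
  obtain ⟨u, hu, e⟩ := h15 _ (im ((conj_Up_iff a4).2 hg.1) (mul_mem (mul_mem a5 hg.2) (inv_mem a5)))
  exact ⟨⟨_, a1⟩⁻¹ * ⟨u, M.form.Up_le hu⟩ * ⟨_, a1⟩, by simp [e, mul_assoc]⟩

end CF.TC
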