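import Cfsg.Agent.TC.C

/-! Frames in the root systems. -/

set_option autoImplicit false

namespace CF.TC

open Cfsg CF.Chev CF.BN CF.KB CF.KI CF.Chev.Tab

theorem par_aux {I : Type*} {η : I → ZMod 2} {f : I → ℤ} {m : ZMod 2} (h : ∀ x, 2 ∣ f x ↔ η x = m)
    (b c : I) : η b = η c ↔ 2 ∣ f b - f c := by
  have h1 := h b
  have h2 := h c
  have : η b = η c ↔ (η b = m ↔ η c = m) := by
    exact (by decide : ∀ x y m : ZMod 2, x = y ↔ (x = m ↔ y = m)) _ _ _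
  rw [this, ← h1, ← h2]; omega

/-- The standard frame in type `A`. -/
def frA (n : ℕ) : Finset (RtA n) := Finset.univ.filter fun r => r.1.1.val < r.1.2 ∧ r.1.1.val + r.1.2 = n

theorem mem_frA {n : ℕ} {r : RtA n} : r ∈ frA n ↔ r.1.1.val < r.1.2 ∧ r.1.1.val + r.1.2 = n := by
  simp [frA]

theorem fr_A {n : ℕ} (hn : 2 ≤ n) : Fr (cbA n) (frA n) := by
  have ext : ∀ {r s : RtA n}, r.1.1.val = s.1.1 → r.1.2.val = s.1.2 → r = s := fun h1 h2 =>
    Subtype.ext (Prod.ext (Fin.ext h1) (Fin.ext h2))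
  have ex : ∀ x : Fin (n + 1), 2 * x.val ≠ n → ∃ a ∈ frA n, a.1.1 = x ∨ a.1.2 = x := fun x h => by
    rcases lt_or_gt_of_ne h with h | h
    · exact ⟨⟨(x, x.rev), by simp [Fin.ext_iff]; omega⟩, by simp [mem_frA]; omega, .inl rfl⟩
    · exact ⟨⟨(x.rev, x), by simp [Fin.ext_iff]; omega⟩, by simp [mem_frA]; omega, .inr rfl⟩
  refine ⟨fun a ha b hb e => ?_, fun a ha v e => ?_, fun a ha => ?_, fun r => ?_, fun e he => ?_⟩
  · have := mt (fun h : _ ∧ _ => ext h.1 h.2) e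
    simp only [mem_frA, cbA_A, Fin.ext_iff] at *; omega
  · refine ext ?_ ?_ <;> simp only [mem_frA, cbA_A, Fin.ext_iff] at * <;> omega
  · rw [mem_frA] at ha
    refine ⟨⟨(a.1.1, ⟨if a.1.1.val = 0 then 1 else 0, by split_ifs <;> omega⟩), ?_⟩, ?_⟩ <;>
      by_cases k : a.1.1.val = 0 <;>
        simp only [cbA_A, Fin.ext_iff, Ne, if_true, k, if_false, not_false_eq_true] <;> omega
  · have := r.2
    by_cases h : 2 * r.1.1.val = n
    · obtain ⟨a, h1, h2⟩ := ex r.1.2 (by simp only [Ne, Fin.ext_iff] at this; omega)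
      exact ⟨a, h1, by simp only [mem_frA, cbA_A, Fin.ext_iff, Ne] at *; omega⟩
    · obtain ⟨a, h1, h2⟩ := ex r.1.1 h
      exact ⟨a, h1, by simp only [mem_frA, cbA_A, Fin.ext_iff, Ne] at *; omega⟩
  obtain ⟨η, h1, -⟩ := exists_eta (e := e) cbA_rs (wt := wtA) 0 fun b => by
    by_cases h1 : b = 0
    · simp [h1]
    · exact ⟨_, (eucA n).L_rs_vec ⟨(b, 0), h1⟩⟩
  replace h1 := fun r => h1 r _ _ (eucA_ev r)
  let m := η ⟨n / 2, by omega⟩
  let y : RtA n → ℤ := fun a => if η a.1.1 = m then 0 else 1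
  refine ⟨y, fun r => ?_⟩
  simp only [h1, cbA_A, mul_sub (y _) (_ - _), Finset.sum_sub_distrib]
  refine par_aux (m := m) (f := fun x => ∑ a ∈ frA n,
    y a * ((if x = a.1.1 then 1 else 0) - if x = a.1.2 then 1 else 0)) (fun x => ?_) _ _
  by_cases h : 2 * x.val = n
  · rw [Finset.sum_eq_zero fun a ha => by
      rw [mem_frA] at ha
      rw [if_neg (by rw [Fin.ext_iff]; omega), if_neg (by rw [Fin.ext_iff]; omega)]; simp]
    simp [m, show x = ⟨n / 2, by omega⟩ from Fin.ext (by simp; omega)]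
  obtain ⟨a, h2, h3⟩ := ex x h
  rw [Finset.sum_eq_single_of_mem a h2 fun b hb e => by
    have := mt (fun h : _ ∧ _ => ext h.1 h.2) e
    simp only [mem_frA, Fin.ext_iff] at h2 h3 hb
    rw [if_neg (by rw [Fin.ext_iff]; omega), if_neg (by rw [Fin.ext_iff]; omega)]; simp]
  have h4 := (h1 a).1 (he a h2)
  have := a.2
  rcases h3 with rfl | rfl <;> simp only [y, this, this.symm, if_true, if_false, h4] <;>
    split_ifs with k <;> simp [k]

/-- The standard frame in type `C`. -/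
def frC (n : ℕ) : Finset (RtO 1 (2 * n)) :=
  Finset.univ.filter fun r => r.1.1.val < r.1.2 ∧ r.1.1.val + r.1.2 + 1 = 2 * n

theorem mem_frC {n : ℕ} {r : RtO 1 (2 * n)} :
    r ∈ frC n ↔ r.1.1.val < r.1.2 ∧ r.1.1.val + r.1.2 + 1 = 2 * n := by simp [frC]

theorem fr_C {n : ℕ} (hn : 2 ≤ n) {B : Type} [Fintype B] [DecidableEq B] (b : BaseO 1 (2 * n) B) :
    Fr b.cb (frC n) := by
  have ext : ∀ {r s : RtO 1 (2 * n)}, r.1.1.val = s.1.1 → r.1.2.val = s.1.2 → r = s := fun h1 h2 =>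
    Subtype.ext (Prod.ext (Fin.ext h1) (Fin.ext h2))
  have hA : ∀ a ∈ frC n, ∀ r, b.cb.A a r = dlt r.1.1 a.1.1 - dlt r.1.2 a.1.1 := fun a ha r =>
    b.A_long (by rw [evO, show a.1.2 = a.1.1.rev from Fin.ext (by
      rw [mem_frC] at ha; rw [Fin.val_rev]; omega)]) rfl
  have ex : ∀ x : Fin (2 * n), ∃ a ∈ frC n, a.1.1 = x ∨ a.1.2 = x := fun x => by
    rcases lt_or_ge x.val n with h | h
    · exact ⟨⟨(x, x.rev), by simp [Fin.ext_iff]; omega⟩, by simp [mem_frC]; omega, .inl rfl⟩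
    · exact ⟨⟨(x.rev, x), by simp [Fin.ext_iff]; omega⟩, by simp [mem_frC]; omega, .inr rfl⟩
  refine ⟨fun a ha c hc e => ?_, fun a ha v e => ?_, fun a ha => ?_, fun r => ?_, fun e he => ?_⟩
  · have := mt (fun h : _ ∧ _ => ext h.1 h.2) e
    simp only [hA a ha, mem_frC, dlt] at *; omega
  · refine ext ?_ ?_ <;> simp only [hA a ha, mem_frC, dlt] at * <;> omega
  · have := mem_frC.1 ha
    refine ⟨⟨(a.1.1, ⟨if a.1.1.val = 0 then 1 else 0, by split_ifs <;> omega⟩), ?_⟩, ?_⟩ <;>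
      by_cases k : a.1.1.val = 0 <;>
        simp only [hA a ha, dlt, Fin.ext_iff, Ne, if_true, k, if_false, not_false_eq_true, true_and] <;> omega
  · have := r.2
    obtain ⟨a, h1, h2⟩ := ex r.1.1
    exact ⟨a, h1, by simp only [hA a h1, mem_frC, dlt, Fin.ext_iff, Ne] at *; omega⟩
  obtain ⟨η, h1, -⟩ := exists_eta (e := e) b.cb_rs (wt := wtO) ⟨0, by omega⟩ fun x => by
    by_cases h1 : x = ⟨0, by omega⟩
    · simp [h1]
    · exact (b.exists_rt h1 (by simp)).elim fun r hr => ⟨_, (b.euc.L_rs_vec r).trans hr⟩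
  replace h1 := fun r => h1 r _ _ rfl
  let y : RtO 1 (2 * n) → ℤ := fun a => if η a.1.1 = 0 then 0 else 1
  refine ⟨y, fun r => ?_⟩
  rw [h1, Finset.sum_congr rfl fun a ha => by rw [hA a ha, mul_sub], Finset.sum_sub_distrib]
  refine par_aux (m := 0) (f := fun x => ∑ a ∈ frC n, y a * dlt x a.1.1) (fun x => ?_) _ _
  obtain ⟨a, h2, h3⟩ := ex x
  rw [Finset.sum_eq_single_of_mem a h2 fun c hc e => by
    have := mt (fun h : _ ∧ _ => ext h.1 h.2) e
    simp only [mem_frC, Fin.ext_iff] at h2 h3 hc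
    rw [show dlt x c.1.1 = 0 by simp only [dlt]; omega, mul_zero]]
  have h4 := (h1 a).1 (he a h2)
  have h5 : dlt x a.1.1 % 2 = 1 := by simp only [mem_frC, Fin.ext_iff, dlt] at h2 h3 ⊢; omega
  rw [show η x = η a.1.1 by rcases h3 with rfl | rfl; exacts [rfl, h4.symm]]
  simp only [y]
  split_ifs with k <;> simp only [k, iff_true, iff_false] <;> omega

theorem exists_bits {l : ℕ} (e : Fin l → ZMod 2) : ∃ a < 2 ^ l, e = fun i : Fin l => (dig a 1 i : ZMod 2) :=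
  ⟨Nat.ofBits fun j => decide (e j = 1), Nat.ofBits_lt_two_pow _, funext fun i => by
    have := Nat.testBit_ofBits_lt (fun j => decide (e j = 1)) i i.2
    rw [Nat.testBit_eq_decide_div_mod_eq, decide_eq_decide, ← Nat.shiftRight_eq_div_pow] at this
    change _ = ((_ >>> (1 * i.val) % 2 : ℕ) : ZMod 2)
    rw [one_mul]
    rcases Nat.mod_two_eq_zero_or_one (_ >>> i.val) with e' | e' <;> rw [e'] at this ⊢
    · exact ((by decide : ∀ a : ZMod 2, a = 0 ∨ a = 1) _).resolve_right (by simpa using this)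
    · exact this.1 rfl⟩

/-- The Cartan integers. -/
def aT (T : Tab) (r s : ℕ) : ℤ := sumLt T.l fun i => T.cov r i * T.car i s

/-- The test for frames. -/
def chkFr (T : Tab) (L : List ℕ) : Bool := decide L.Nodup && L.all (fun a =>
  L.all (fun b => a = b || aT T a b = 0) && allLt T.n (fun v => aT T a v ≠ 2 || v = a) &&
    !allLt T.n fun r => aT T a r % 2 ≠ 1) && allLt T.n (fun r => L.any (aT T · r ≠ 0)) &&
  allLt (2 ^ T.l) fun e => L.any (!inS T e ·) || L.sublists.any fun M => allLt T.l fun i =>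
    (dig e 1 i - (L.map fun x => (if x ∈ M then 1 else 0) * aT T x (T.sim i)).sum) % 2 = 0

theorem fr_of {T : Tab} {l n : ℕ} {C : ChevBasis (Fin l) (Fin n)} (H : TabOf C T) (L : List (Fin n))
    (h : chkFr T (L.map Fin.val)) : Fr C L.toFinset := by
  have hA : ∀ r s : Fin n, aT T r s = C.A r s := fun r s => by simp [aT, ← H.hl, sumLt_eq, H.A]
  simp only [chkFr, Bool.and_eq_true, List.all_eq_true, allLt_iff, Bool.or_eq_true,
    decide_eq_true_iff, List.any_eq_true, ← H.hl, ← H.hn, Bool.not_eq_true', ← Bool.not_eq_true,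
    List.forall_mem_map, not_forall, not_not] at h
  obtain ⟨⟨⟨h1, h2⟩, h3⟩, h4⟩ := h
  simp only [← List.mem_toFinset (l := L)] at h2
  refine ⟨fun a ha b hb e => hA a b ▸ ((h2 a ha).1.1 b hb).resolve_left (Fin.val_ne_of_ne e),
    fun a ha v e => Fin.ext (((h2 a ha).1.2 v v.2).resolve_left (by simp [hA, e])), fun a ha => ?_,
    fun r => ?_, fun e he => ?_⟩
  · obtain ⟨r, h5, h6⟩ := (h2 a ha).2
    exact ⟨⟨r, h5⟩, hA a ⟨r, h5⟩ ▸ h6⟩
  · obtain ⟨_, h5, h6⟩ := h3 r r.2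
    obtain ⟨a, h7, rfl⟩ := List.mem_map.1 h5
    exact ⟨a, List.mem_toFinset.2 h7, hA a r ▸ h6⟩
  obtain ⟨e, h5, rfl⟩ := exists_bits e
  obtain ⟨_, h6, h7⟩ | ⟨M, -, h6⟩ := h4 e h5
  · obtain ⟨a, h8, rfl⟩ := List.mem_map.1 h6
    exact (h7 ((inS_iff H _ _).2 (he a (List.mem_toFinset.2 h8)))).elim
  let y : Fin n → ℤ := fun x => if x.val ∈ M then 1 else 0
  have h7 : ∀ i : Fin l, (dig e 1 i : ZMod 2) = (∑ a ∈ L.toFinset, y a * C.A a (C.simple i) : ℤ) :=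
    fun i => by
    have := (ZMod.intCast_zmod_eq_zero_iff_dvd _ 2).2 (Int.dvd_of_emod_eq_zero (h6 i i.2))
    rw [List.map_map, ← H.sim, ← List.sum_toFinset _ (h1.of_map _), Int.cast_sub, sub_eq_zero] at this
    simpa [y, hA] using this
  refine ⟨y, fun r => ?_⟩
  rw [show (2 : ℤ) = (2 : ℕ) from rfl, ← ZMod.intCast_zmod_eq_zero_iff_dvd]
  have : ∀ a, C.A a r = ∑ i, C.vec r i * C.A a (C.simple i) := fun a => by
    conv_lhs => rw [C.A_def, ← Finset.univ_sum_single (C.vec r), map_sum]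
    refine Finset.sum_congr rfl fun i _ => ?_
    rw [C.A_def, C.vec_simple, ← smul_eq_mul, ← map_smul, ← Pi.single_smul, smul_eq_mul, mul_one]
  simp only [Sg, Set.mem_ofPred_eq, h7, this, Finset.mul_sum, Int.cast_sum, Int.cast_mul]
  rw [Finset.sum_comm]
  simp only [mul_left_comm]

theorem fr_G2 : ∃ S, Fr cbG2 S := ⟨_, fr_of (tabOf certG2) ([6, 9] : List (Fin 12)) (by decide +kernel)⟩

theorem fr_F4 : ∃ S, Fr cbF4 S :=
  ⟨_, fr_of (tabOf certF4) ([24, 32, 43, 45] : List (Fin 48)) (by decide +kernel)⟩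

theorem fr_E6 : ∃ S, Fr cE6 S ∧ ∀ a ∈ S, ∀ i, cE6.vec a (pE6 i) = cE6.vec a i := by
  have H : TabOf cE6 tabE6 := tabOf certE6
  exact ⟨_, fr_of H [39, 44, 60, 71] (by decide +kernel), by simp only [H.vec]; decide +kernel⟩

theorem fr_E7 : ∃ S, Fr cbE7 S :=
  ⟨_, fr_of (tabOf certE7) ([63, 66, 73, 78, 87, 92, 125] : List (Fin 126)) (by decide +kernel)⟩

theorem fr_E8 : ∃ S, Fr cbE8 S :=
  ⟨_, fr_of (tabOf certE8) ([120, 123, 130, 147, 156, 161, 232, 233] : List (Fin 240)) (by decide +kernel)⟩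

/-- Congruence of sums of roots modulo 2. -/
def cg (r s r' s' : Fin 24) : Prop := ∀ i : Fin 4,
  2 ∣ tabD4.vec r' i + tabD4.vec s' i - (tabD4.vec r i + tabD4.vec s i)

instance instDecCg (r s r' s' : Fin 24) : Decidable (cg r s r' s') := by unfold cg; infer_instance

/-- Positive roots of the subsystem. -/
def pD (e : ℕ) (r : Fin 24) : Prop := inS tabD4 e r ∧ 12 ≤ r.val

instance instDecPD (e : ℕ) (r : Fin 24) : Decidable (pD e r) := by unfold pD; infer_instance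

/-- The fourth root. -/
def q4 (e : ℕ) (a b c d : Fin 24) : Prop := ∃ x, pD e x ∧ x ≠ a ∧ x ≠ b ∧ x ≠ c ∧
  ∀ y, pD e y → y ≠ b → y ≠ c → y ≠ d → y = x

instance instDecQ4 (e : ℕ) (a b c d : Fin 24) : Decidable (q4 e a b c d) := by unfold q4; infer_instance

/-- Cycles of length three. -/
def q3 (e : ℕ) (a b c : Fin 24) : Prop := c ≠ a ∧ ∀ d, pD e d → d ≠ c → d ≠ b →
  (aT tabD4 a c = 0 → ¬ cg a c b d) → q4 e a b c d

instance instDecQ3 (e : ℕ) (a b c : Fin 24) : Decidable (q3 e a b c) := by unfold q3; infer_instance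

/-- Subsystems of type `A₃`. -/
def q1 (e : ℕ) (r s : Fin 24) : Prop := aT tabD4 r s = 0 ∧ ∀ r' : Fin 24, inS tabD4 e r' →
  ∀ s' : Fin 24, inS tabD4 e s' → aT tabD4 r' s' = 0 → cg r s r' s'

instance instDecQ1 (e : ℕ) (a b : Fin 24) : Decidable (q1 e a b) := by unfold q1; infer_instance

/-- Subsystems of type `A₁⁴`. -/
def q2 (e : ℕ) (a b : Fin 24) : Prop :=
  ∀ c, pD e c → c ≠ b → (aT tabD4 a b = 0 → ¬ cg a b b c) → q3 e a b c

instance instDecQ2 (e : ℕ) (a b : Fin 24) : Decidable (q2 e a b) := by unfold q2; infer_instance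

/-- The sign character of a coroot. -/
def q0 (e : ℕ) (a : Fin 24) : Prop := ∀ r : Fin 24, inS tabD4 e r ↔ 2 ∣ aT tabD4 a r

instance instDecQ0 (e : ℕ) (a : Fin 24) : Decidable (q0 e a) := by unfold q0; infer_instance

set_option synthInstance.maxSize 2000 in
theorem d4_cases : ∀ e < 2 ^ 4, (∃ r : Fin 24, ¬ inS tabD4 e r) →
    (∃ r : Fin 24, inS tabD4 e r ∧ ∃ s : Fin 24, inS tabD4 e s ∧ q1 e r s) ∨ (∃ a, pD e a) ∧
      (∀ a, pD e a → q0 e a) ∧ ∀ a, pD e a → ∀ b, pD e b → b ≠ a → q2 e a b := by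
  decide +kernel

theorem nd_D4 {π : Equiv.Perm (Fin 24)} (h : ∀ r i, cD4.vec (π r) (pD4 i) = cD4.vec r i) :
    ∀ e, ∀ w ∈ cD4.W, (∃ r, r ∉ Sg cD4 e) → (∀ r ∈ Sg cD4 e, (w * π) r ∈ Sg cD4 e) →
      (∀ r ∈ Sg cD4 e, cD4.Pos ((w * π) r) ↔ cD4.Pos r) →
      ∃ a, (w * π) a = a ∧ ∀ r, r ∈ Sg cD4 e ↔ 2 ∣ cD4.A a r := fun e w hw h0 h1 h2 => by
  have H : TabOf cD4 tabD4 := tabOf certD4
  have hA : ∀ r s : Fin 24, cD4.A r s = aT tabD4 r s := fun r s => by
    simp [aT, ← H.hl, sumLt_eq, H.A]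
  have hP : ∀ r : Fin 24, cD4.Pos r ↔ 12 ≤ r.val := by
    simp only [RootSys.pos_iff_ht, RootSys.ht_apply, H.vec]; decide +kernel
  have h3 := mem_Aut_of_sym (C := cD4) goodD4.conn (q := pD4) (by simp only [carD4']; decide) h
  have h4 := RootSys.A_aut (mul_mem (cD4.W_le_Aut hw) h3)
  have h5 : ∀ r s : Fin 24, aT tabD4 r s = 0 → ¬ cg r s ((w * π) r) ((w * π) s) := fun r s a1 a2 => by
    obtain ⟨y, hy⟩ := lin_mod hw (x := cD4.vec (π r) + cD4.vec (π s)) fun i => by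
      rw [← hA, ← RootSys.A_aut h3] at a1
      rw [map_add, ← cD4.A_simple, ← cD4.A_simple]
      generalize π r = r, π s = s at a1 ⊢
      revert r s i
      simp only [H.car]; simp only [hA]; decide +kernel
    rw [map_add, ← RootSys.vec_aut (cD4.W_le_Aut hw), ← RootSys.vec_aut (cD4.W_le_Aut hw)] at hy
    refine (show ∀ r s : Fin 24, aT tabD4 r s = 0 → ¬ ∀ i, 2 ∣ cD4.vec r (pD4 i) +
      cD4.vec s (pD4 i) - (cD4.vec r i + cD4.vec s i) by
        simp only [H.vec]; decide +kernel) r s a1 fun i => ?_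
    have b1 := congrFun hy (pD4 i)
    have b2 := a2 (pD4 i)
    simp only [Pi.add_apply, h, Pi.smul_apply, smul_eq_mul, Equiv.Perm.mul_apply, ← H.vec] at b1 b2
    omega
  obtain ⟨e, h6, rfl⟩ := exists_bits e
  simp only [← inS_iff H, hA, hP] at h0 h1 h2 h4 ⊢
  generalize w * π = σ at *
  have h7 : ∀ r, pD e r → pD e (σ r) := fun r k => ⟨h1 r k.1, (h2 r k.1).2 k.2⟩
  obtain ⟨r, a1, s, a2, a3, a4⟩ | ⟨⟨a, a1⟩, a2, a3⟩ := d4_cases e h6 h0
  · exact (h5 r s a3 (a4 _ (h1 r a1) _ (h1 s a2) ((h4 r s).trans a3))).elim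
  by_cases a4 : σ a = a
  · exact ⟨a, a4, a2 a a1⟩
  have a5 := σ.injective.ne a4
  obtain ⟨a6, a7⟩ := a3 a a1 _ (h7 _ a1) a4 _ (h7 _ (h7 _ a1)) a5 (h5 _ _)
  obtain ⟨x, b1, b2, b3, b4, b5⟩ := a7 _
    (h7 _ (h7 _ (h7 _ a1))) (σ.injective.ne a5) (σ.injective.ne a6) (h5 _ _)
  exact ⟨x, b5 _ (h7 x b1) (σ.injective.ne b2) (σ.injective.ne b3) (σ.injective.ne b4), a2 x b1⟩

end CF.TC
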