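import Cfsg.Agent.TC.A
import Cfsg.Agent.Geom.Simple
import Cfsg.Agent.Geom.Disc

/-! 2-central involutions of orthogonal groups in odd characteristic. -/

set_option autoImplicit false

namespace CF.TC

open Subgroup CF.Geom Module QuadraticMap Equiv
open scoped commutatorElement

section

variable {I : Type*} [Fintype I] [DecidableEq I] {τ : Perm I} {o : I}

/-- The sign change at one place. -/
def sg (i : I) : I → ℤˣ := Pi.mulSingle i (-1)

omit [Fintype I] in
theorem sg_apply (i j : I) : sg i j = if j = i then -1 else 1 := Pi.mulSingle_apply _ _ _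

theorem mem_of_pairs (hτ : ∀ i, τ (τ i) = i) {D : Subgroup (I → ℤˣ)}
    (h : ∀ i, τ i ≠ i → sg i * sg (τ i) ∈ D) (n : ℕ) : ∀ c : I → ℤˣ,
      (Finset.univ.filter (c · ≠ 1)).card = n → (∀ i, c (τ i) = c i) → (∀ i, τ i = i → c i = 1) → c ∈ D := by
  induction' n using Nat.strong_induction_on with n ih
  rintro c rfl h1 h2
  by_cases h3 : c = 1
  · exact h3 ▸ one_mem D
  obtain ⟨i, h4⟩ := Function.ne_iff.1 h3
  have h5 : τ i ≠ i := fun e => h4 (h2 i e)
  have h6 : c i = -1 := (Int.units_eq_one_or _).resolve_left h4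
  have h7 : ∀ j, τ j = i ↔ j = τ i := fun j => ⟨fun e => by rw [← e, hτ], fun e => by rw [e, hτ]⟩
  refine (mul_mem_cancel_right (h i h5)).1 (ih _ (Finset.card_lt_card ⟨fun j => ?_, fun k => ?_⟩) _ rfl
    (fun j => ?_) fun j e => ?_)
  · by_cases a : j = i
    · simp [a, h6]
    by_cases b : j = τ i <;> simp [sg_apply, a, b, h1, h6]
  · simpa [sg_apply, h6, h5.symm] using @k i (by simpa using h4)
  · simp [sg_apply, h1, h7, mul_comm]
  · have a : j ≠ i := fun a => h5 (a ▸ e)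
    have b : j ≠ τ i := fun b => a (e.symm.trans ((h7 j).2 b))
    simp [sg_apply, h2 j e, a, b]

theorem mem_of_inv (hτ : ∀ i, τ (τ i) = i) (ho : τ o = o)
    (hf : ∀ i j, τ i = i → τ j = j → i ≠ o → j ≠ o → i = j) {D E : Subgroup (I → ℤˣ)} (hD : D ≤ E)
    (h : ∀ i, τ i ≠ i → sg i * sg (τ i) ∈ D) (h1 : ∀ i, sg i ∉ E) (h2 : -1 ∈ E → -1 ∈ D)
    {c : I → ℤˣ} (hc : c ∈ E) (h3 : ∀ i, c (τ i) = c i) : c ∈ D := by
  have k : ∀ c : I → ℤˣ, (∀ i, c (τ i) = c i) → (fun i => if τ i = i then 1 else c i) ∈ D :=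
    fun c h3 => mem_of_pairs hτ h _ _ rfl (fun i => by simp [hτ, h3, eq_comm]) (by simp +contextual)
  have k1 : ∀ c ∈ E, (∀ i, c (τ i) = c i) → ∀ j, τ j = j → (∀ i, τ i = i → i ≠ j → c i = 1) → c ∈ D :=
    fun c hc h3 j h4 h5 => by
    rcases Int.units_eq_one_or (c j) with h6 | h6
    · exact mem_of_pairs hτ h _ _ rfl h3 fun i e => (eq_or_ne i j).elim (· ▸ h6) (h5 i e)
    refine (h1 j ?_).elim
    convert mul_mem hc (hD (k c h3)) using 1
    funext i
    by_cases a : i = j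
    · simp [a, sg_apply, h4, h6]
    by_cases b : τ i = i <;> simp [sg_apply, a, b]
    exact (h5 i b a).symm
  by_cases h4 : ∀ i, τ i = i → i ≠ o → c i = 1
  · exact k1 c hc h3 o ho h4
  push Not at h4
  obtain ⟨j, h4, h5, h6⟩ := h4
  rcases Int.units_eq_one_or (c o) with h7 | h7
  · exact k1 c hc h3 j h4 fun i a b => (eq_or_ne i o).elim (· ▸ h7) fun e => (b (hf i j a h4 e h5)).elim
  have h8 : -1 = c * fun i => if τ i = i then 1 else (-c) i := funext fun i => by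
    by_cases a : τ i = i <;> simp [a]
    rcases eq_or_ne i o with rfl | e
    · exact h7.symm
    · exact hf i j a h4 e h5 ▸ ((Int.units_eq_one_or _).resolve_left h6).symm
  have h9 := k (-c) (by simpa using h3)
  exact (mul_mem_cancel_right h9).1 (h8 ▸ h2 (h8 ▸ mul_mem hc (hD h9)))

end

variable {F V : Type*} [Field F] [AddCommGroup V] [Module F V] {Q : QuadraticForm F V}
  {I : Type*} [Fintype I] [DecidableEq I] {b : Basis I F V} {τ σ σ' : Perm I} {o : I} {a : F}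
  {g g' : OG Q} {ε ε' : I → ℤˣ}

variable (b) in
/-- Signed permutations of a basis. -/
def Ac (g : OG Q) (ε : I → ℤˣ) (σ : Perm I) : Prop := ∀ m, g.1 (b m) = (ε m : ℤ) • b (σ m)

omit [Fintype I] [DecidableEq I] in
theorem Ac.mul (h : Ac b g ε σ) (h' : Ac b g' ε' σ') : Ac b (g * g') (ε' * ε ∘ σ') (σ * σ') :=
  fun m => by simp [h' m, h (σ' m), smul_smul]

omit [Fintype I] [DecidableEq I] in
theorem Ac.eq (h : Ac b g ε σ) (h' : Ac b g' ε σ) : g = g' :=
  Subtype.ext (b.ext' fun m => (h m).trans (h' m).symm)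

omit [Fintype I] [DecidableEq I] in
theorem ac_one : Ac b (1 : OG Q) 1 1 := fun m => by simp

omit [DecidableEq I] in
theorem Ac.repr (h : Ac b g ε 1) (x : V) (m : I) : b.repr (g.1 x) m = (ε m : ℤ) * b.repr x m := by
  conv_lhs => rw [← b.sum_repr x, map_sum, map_sum, Finsupp.finsetSum_apply]
  rw [Finset.sum_eq_single m (fun l _ e => by simp [h l, e]) (by simp)]
  simp [h m, mul_comm]

variable (Q b τ o a) in
/-- An orthogonal frame with a pairing. -/
structure OF : Prop where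
  two : (2 : F) ≠ 0
  orth : ∀ i j, i ≠ j → polar Q (b i) (b j) = 0
  ne : ∀ i, Q (b i) ≠ 0
  val : ∀ i, i ≠ o → Q (b i) = a
  inv : ∀ i, τ (τ i) = i
  fix : τ o = o
  uniq : ∀ i j, τ i = i → τ j = j → i ≠ o → j ≠ o → i = j
  ex : ∀ i j, ∃ l, τ l ≠ l ∧ l ≠ i ∧ l ≠ τ i ∧ l ≠ j ∧ l ≠ τ j

namespace OF

variable (H : OF Q b τ o a)
include H

omit [Fintype I] in
theorem ac_refl (i : I) : Ac b (oRefl Q (b i)) (sg i) 1 := fun m => by
  rcases eq_or_ne m i with rfl | e
  · simp [sg_apply, oRefl_self (H.ne m)]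
  · simp [sg_apply, e, oRefl_of_polar_eq_zero (H.orth _ _ e.symm)]

omit [Fintype I] [DecidableEq I] in
theorem ne_o {i : I} (h : τ i ≠ i) : i ≠ o ∧ τ i ≠ o :=
  ⟨fun e => h (e ▸ H.fix), fun e => h (by rw [e, ← H.inv i, e, H.fix])⟩

omit [Fintype I] [DecidableEq I] in
theorem q_sub {i : I} (h : τ i ≠ i) : Q (b i - b (τ i)) = 2 * a ∧ 2 * a ≠ 0 :=
  ⟨by rw [quad_sub, H.orth _ _ h.symm, H.val _ (H.ne_o h).1, H.val _ (H.ne_o h).2]; ring,
    mul_ne_zero H.two (H.val _ (H.ne_o h).1 ▸ H.ne i)⟩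

omit [Fintype I] in
theorem ac_swap {i : I} (h : τ i ≠ i) : Ac b (oRefl Q (b i - b (τ i))) 1 (swap i (τ i)) := fun m => by
  obtain ⟨h1, h2⟩ := H.q_sub h
  rw [oRefl_apply, h1, polar_sub_left]
  rcases eq_or_ne m i with rfl | e
  · rw [polar_self', H.orth _ _ h, H.val _ (H.ne_o h).1, sub_zero, inv_mul_cancel₀ h2]; simp
  rcases eq_or_ne m (τ i) with rfl | e'
  · rw [polar_self', H.orth _ _ h.symm, H.val _ (H.ne_o h).2, zero_sub, mul_neg, inv_mul_cancel₀ h2]
    simp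
  · simp [H.orth _ _ e.symm, H.orth _ _ e'.symm, swap_apply_of_ne_of_ne e e']

theorem exists_dg : ∃ d : (I → ℤˣ) →* OG Q, ∀ ε, Ac b (d ε) ε 1 := by
  have k : ∀ ε, ∃ g : OG Q, Ac b g ε 1 := fun ε => by
    refine closure_induction (p := fun ε _ => ∃ g : OG Q, Ac b g ε 1) (k := Set.range sg) ?_ ⟨1, ac_one⟩
      (fun x y _ _ ⟨g, h⟩ ⟨g', h'⟩ => ⟨_, by simpa [mul_comm] using h.mul h'⟩)
      (fun x _ h => by rwa [show x⁻¹ = x from funext fun i => by simp]) ?_
    · rintro _ ⟨i, rfl⟩; exact ⟨_, H.ac_refl i⟩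
    rw [← Finset.univ_prod_mulSingle ε]
    exact Subgroup.prod_mem _ fun i _ => (Int.units_eq_one_or (ε i)).elim (fun e => by simp [e, one_mem])
      fun e => e ▸ subset_closure ⟨i, rfl⟩
  choose d hd using k
  exact ⟨.mk' d fun x y => (hd _).eq (by simpa [mul_comm] using (hd x).mul (hd y)), hd⟩

omit [Fintype I] [DecidableEq I] in
theorem sign {c : F} {m : I} (h : g.1 (b m) = c • b m) : ∃ e : ℤˣ, c = (e : ℤ) := by
  have := OG_map g (b m)
  rw [h, quad_smul, mul_left_eq_self₀, sq_eq_one_iff] at this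
  rcases this.resolve_right (H.ne m) with rfl | rfl
  exacts [⟨1, by simp⟩, ⟨-1, by simp⟩]

omit [Fintype I] [DecidableEq I] in
theorem cast_inj {e e' : ℤˣ} (h : ((e : ℤ) : F) = (e' : ℤ)) : e = e' := by
  have := H.two
  rcases Int.units_eq_one_or e with rfl | rfl <;> rcases Int.units_eq_one_or e' with rfl | rfl <;>
    simp_all [eq_neg_iff_add_eq_zero, neg_eq_iff_add_eq_zero, one_add_one_eq_two]

theorem diag {d : (I → ℤˣ) →* OG Q} (hd : ∀ ε, Ac b (d ε) ε 1)
    (h : ∀ i j, i ≠ o → j ≠ o → ∃ e : ℤˣ, ∀ x,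
      (d (sg i * sg j)).1 (g.1 x) = (e : ℤ) • g.1 ((d (sg i * sg j)).1 x)) : ∃ c, Ac b g c 1 := by
  choose! δ hδ using h
  have h1 : ∀ m l, b.repr (g.1 (b m)) l ≠ 0 → ∀ i j, i ≠ o → j ≠ o →
      (sg i * sg j) l = δ i j * (sg i * sg j) m := fun m l h1 i j h2 h3 => by
    have := congrArg (b.repr · l) (hδ i j h2 h3 (b m))
    simp only [(hd _).repr, hd _ m, map_zsmul, Perm.one_apply, smul_smul, Finsupp.smul_apply,
      zsmul_eq_mul, mul_eq_mul_right_iff, h1, or_false, ← Units.val_mul] at this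
    exact H.cast_inj this
  have h2 : ∀ m, ∃ l, b.repr (g.1 (b m)) l ≠ 0 := fun m => by_contra fun k =>
    b.ne_zero m (g.1.map_eq_zero_iff.1 (b.repr.map_eq_zero_iff.1 (Finsupp.ext (by simpa using k))))
  have h3 : ∀ i j, i ≠ o → j ≠ o → δ i j = 1 := by
    obtain ⟨l, hl⟩ := h2 o
    have h3 : ∀ i j, i ≠ o → j ≠ o → δ i j = (sg i * sg j) l := fun i j a1 a2 => by
      simp [h1 o l hl i j a1 a2, sg_apply, a1.symm, a2.symm]
    rcases eq_or_ne l o with rfl | e
    · exact fun i j a1 a2 => by simp [h3 i j a1 a2, sg_apply, a1.symm, a2.symm]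
    obtain ⟨m, a1, a2, -⟩ := H.ex l l
    obtain ⟨l', hl'⟩ := h2 m
    have a0 := (H.ne_o a1).1
    obtain ⟨x, a3, a4, a5, a6, a7⟩ := H.ex l m
    have k : ∀ i j, i ≠ o → j ≠ o → (sg i * sg j) l' = (sg i * sg j) l * (sg i * sg j) m :=
      fun i j a1 a2 => h3 i j a1 a2 ▸ h1 m l' hl' i j a1 a2
    have a8 : τ x ≠ l := fun e => a5 (by rw [← e, H.inv])
    have a9 : τ x ≠ m := fun e => a7 (by rw [← e, H.inv])
    have k1 := k l x e (H.ne_o a3).1
    have k2 := k m x a0 (H.ne_o a3).1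
    have k3 := k l (τ x) e (H.ne_o a3).2
    simp only [Pi.mul_apply, sg_apply, a2, a2.symm, a4.symm, a6.symm, a8.symm, a9.symm, if_true,
      if_false] at k1 k2 k3
    by_cases b1 : l' = l
    · simp [b1, a2.symm, a4.symm] at k2
    by_cases b2 : l' = x
    · simp [b2, a4, a3.symm] at k3
    · simp [b1, b2] at k1
  have h4 : ∀ m l, l ≠ m → b.repr (g.1 (b m)) l = 0 := fun m l e => by_contra fun k => by
    obtain ⟨x, a3, a4, -, a6, -⟩ := H.ex l m
    rcases eq_or_ne l o with rfl | e'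
    · simpa [h3 _ _ e.symm (H.ne_o a3).1, sg_apply, e, a4.symm, a6.symm] using
        h1 m l k m x e.symm (H.ne_o a3).1
    · simpa [h3 _ _ e' (H.ne_o a3).1, sg_apply, e.symm, a4.symm, a6.symm] using
        h1 m l k l x e' (H.ne_o a3).1
  have h5 : ∀ m, g.1 (b m) = b.repr (g.1 (b m)) m • b m := fun m => by
    conv_lhs => rw [← b.sum_repr (g.1 (b m))]
    exact Finset.sum_eq_single m (fun l _ e => by rw [h4 m l e, zero_smul]) (by simp)
  choose c hc using fun m => H.sign (h5 m)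
  exact ⟨c, fun m => by rw [h5, hc, Int.cast_smul_eq_zsmul]; rfl⟩

theorem tc [Finite F] [FiniteDimensional F V] (hQ : (polarBilin Q).Nondegenerate)
    (h3 : 3 ≤ finrank F V) {G : Type*} [Group G] {ρ : G →* OG Q} (h1 : Function.Injective ρ)
    (h2 : ρ.range = commutator (OG Q)) : Tc (G ⧸ center G) := by
  have : Finite V := Module.finite_of_finite F
  have : Finite (V ≃ₗ[F] V) := Finite.of_injective _ DFunLike.coe_injective
  have : Finite G := Finite.of_injective _ h1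
  obtain ⟨d, hd⟩ := H.exists_dg
  have k : ∀ {σ : Perm I}, (∀ m, σ m = m ∨ σ m = τ m) → σ * σ = 1 := fun {σ} h => Equiv.ext fun m => by
    rcases h m with e | e
    · simp [e]
    rcases h (τ m) with e' | e'
    · have := σ.injective (e.trans e'.symm)
      rw [← this] at e
      simp [e]
    · simp [e, e', H.inv]
  have k4 : ∀ {g : OG Q} {ε σ}, (∀ m, σ m = m ∨ σ m = τ m) → Ac b g ε σ → g ^ 4 = 1 :=
    fun {g ε σ} h h' => by
    have := h'.mul h'
    rw [k h] at this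
    rw [show g ^ 4 = g * g * (g * g) by simp [pow_succ, mul_assoc]]
    exact (this.mul this).eq fun m => by simp
  have km : ∀ {σ σ' : Perm I}, (∀ m, σ m = m ∨ σ m = τ m) → (∀ m, σ' m = m ∨ σ' m = τ m) →
      ∀ m, (σ * σ') m = m ∨ (σ * σ') m = τ m := fun {σ σ'} h h' m => by
    rcases h' m with e | e
    · simpa [e] using h m
    · simpa [e, H.inv, or_comm] using h (τ m)
  let M : Subgroup G :=
    { carrier := {g | ∃ ε σ, (∀ m, σ m = m ∨ σ m = τ m) ∧ Ac b (ρ g) ε σ}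
      one_mem' := ⟨1, 1, by simp, map_one ρ ▸ ac_one⟩
      mul_mem' := fun ⟨_, _, a1, a2⟩ ⟨_, _, a3, a4⟩ => ⟨_, _, km a1 a3, map_mul ρ _ _ ▸ a2.mul a4⟩
      inv_mem' := fun {g} ⟨_, _, a1, a2⟩ => ⟨_, _, km (km a1 a1) a1, by
        rw [map_inv, inv_eq_of_mul_eq_one_left (show ρ g * ρ g * ρ g * ρ g = 1 by
          rw [← k4 a1 a2]; simp [pow_succ])]
        exact (a2.mul a2).mul a2⟩ }
  refine tc_of (R := M.map (QuotientGroup.mk' _)) (IsPGroup.map (show IsPGroup 2 M from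
    fun ⟨g, _, _, a1, a2⟩ => ⟨2, Subtype.ext (h1 (by simpa using k4 a1 a2))⟩) _) fun u _ h4 => ?_
  obtain ⟨u, rfl⟩ := QuotientGroup.mk'_surjective _ u
  have h5 : ∀ g ∈ M, ∃ e : ℤˣ, ∀ x, (ρ g).1 ((ρ u).1 x) = (e : ℤ) • (ρ u).1 ((ρ g).1 x) := fun g hg => by
    have := mem_centralizer_singleton_iff.1 (h4 ⟨g, hg, rfl⟩)
    rw [← map_mul, ← map_mul, QuotientGroup.mk'_eq_mk'] at this
    obtain ⟨z, a1, a2⟩ := this
    obtain ⟨c, hc⟩ := center_omega_scalar hQ h3 (h2 ▸ eichlerSub_le_commutator hQ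
      (.inl ⟨-1, by simp, by simpa [neg_eq_iff_add_eq_zero, one_add_one_eq_two] using H.two⟩)) z⁻¹
      (inv_mem a1)
    obtain ⟨e, rfl⟩ := H.sign (hc (b o))
    refine ⟨e, fun x => ?_⟩
    have := congrArg (fun y => (ρ y).1 x) (eq_mul_inv_of_mul_eq a2)
    generalize z⁻¹ = w at hc this
    simpa [hc, Int.cast_smul_eq_zsmul] using this
  have h6 : ∀ i j, i ≠ o → j ≠ o → ∃ g ∈ M, ρ g = d (sg i * sg j) := fun i j a1 a2 => by
    obtain ⟨g, hg⟩ := h2.ge (oRefl_mul_mem_commutator hQ (H.ne i) (H.ne j)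
      (by rw [H.val i a1, H.val j a2]; exact ⟨a, rfl⟩))
    have : Ac b (ρ g) (sg i * sg j) 1 := by simpa [hg, mul_comm] using (H.ac_refl i).mul (H.ac_refl j)
    exact ⟨g, ⟨_, _, by simp, this⟩, this.eq (hd _)⟩
  have h7 : ∀ i, τ i ≠ i → ∀ m, swap i (τ i) m = m ∨ swap i (τ i) m = τ m := fun i a1 m => by
    rcases eq_or_ne m i with rfl | e
    · simp
    rcases eq_or_ne m (τ i) with rfl | e'
    · simp [H.inv]
    · exact .inl (swap_apply_of_ne_of_ne e e')
  have h8 : ∀ i j, τ i ≠ i → τ j ≠ j → ∃ g ∈ M, Ac b (ρ g) 1 (swap i (τ i) * swap j (τ j)) :=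
    fun i j a1 a2 => by
    obtain ⟨g, hg⟩ := h2.ge (oRefl_mul_mem_commutator hQ ((H.q_sub a1).1 ▸ (H.q_sub a1).2)
      ((H.q_sub a2).1 ▸ (H.q_sub a2).2) (by rw [(H.q_sub a1).1, (H.q_sub a2).1]; exact ⟨_, rfl⟩))
    have := hg ▸ (H.ac_swap a1).mul (H.ac_swap a2)
    exact ⟨g, ⟨_, _, km (h7 i a1) (h7 j a2), this⟩, this⟩
  obtain ⟨c, hc⟩ := H.diag hd (g := ρ u) fun i j a1 a2 => by
    obtain ⟨g, a3, a4⟩ := h6 i j a1 a2
    exact a4 ▸ h5 g a3
  have h9 : ∀ i, c (τ i) = c i := fun i => by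
    by_cases a1 : τ i = i
    · rw [a1]
    obtain ⟨j, a2, a3, a4, -⟩ := H.ex i i
    obtain ⟨g, a5, a6⟩ := h8 i j a1 a2
    obtain ⟨e, he⟩ := h5 g a5
    have a7 : ∀ m, c m = e * c ((swap i (τ i) * swap j (τ j)) m) := fun m => H.cast_inj (by
      have := congrArg (b.repr · ((swap i (τ i) * swap j (τ j)) m)) (he (b m))
      simpa [hc m, a6 m, hc (swap i (τ i) (swap j (τ j) m))] using this)
    have a8 := a7 o
    rw [Perm.mul_apply, swap_apply_of_ne_of_ne (H.ne_o a2).1.symm (H.ne_o a2).2.symm,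
      swap_apply_of_ne_of_ne (H.ne_o a1).1.symm (H.ne_o a1).2.symm, right_eq_mul] at a8
    rw [a7 i, a8, one_mul, Perm.mul_apply, swap_apply_of_ne_of_ne a3.symm fun e => a4 (by
      rw [e, H.inv]), swap_apply_left]
  generalize hR : ⁅M.map (QuotientGroup.mk' (center G)), M.map (QuotientGroup.mk' (center G))⁆ = R
  obtain ⟨v, a1, a2⟩ := mem_of_inv H.inv H.fix H.uniq (E := ρ.range.comap d)
    (D := ((R.comap (QuotientGroup.mk' _)).map ρ).comap d) (comap_mono (map_le_range _ _))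
    (fun i a1 => by
      obtain ⟨j, a2, a3, a4, -⟩ := H.ex i i
      obtain ⟨l, a5, a6, a7, a8, a9⟩ := H.ex i j
      obtain ⟨g, b1, b2⟩ := h8 i j a1 a2
      obtain ⟨x, b3, b4⟩ := h6 i l (H.ne_o a1).1 (H.ne_o a5).1
      refine ⟨⁅g, x⁆, ?_, ?_⟩
      · rw [SetLike.mem_coe, mem_comap, map_commutatorElement, ← hR]
        exact commutator_mem_commutator ⟨g, b1, rfl⟩ ⟨x, b3, rfl⟩
      have b5 : ρ g * d (sg i * sg l) = d (sg (τ i) * sg l) * ρ g :=
        (b2.mul (hd _)).eq fun m => ((hd _).mul b2 m).trans (by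
          have : τ j ≠ i := fun e => a4 (by rw [← e, H.inv])
          have : τ j ≠ τ i := τ.injective.ne a3
          congr 2
          simp only [Pi.mul_apply, Function.comp_apply, sg_apply, Perm.mul_apply, Pi.one_apply,
            swap_apply_eq_iff, swap_apply_right, swap_apply_of_ne_of_ne a6 a7,
            swap_apply_of_ne_of_ne a8 a9, swap_apply_of_ne_of_ne a3.symm (‹τ j ≠ i›).symm, one_mul,
            mul_one])
      rw [map_commutatorElement, b4, commutatorElement_def, b5, mul_inv_cancel_right, ← map_inv,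
        ← map_mul, mul_comm (sg i), mul_comm (sg i), mul_inv, mul_assoc, mul_inv_cancel_left]
      exact congrArg (fun z => d (_ * z)) (funext fun m => by simp))
    (fun i ⟨g, hg⟩ => by
      have := commutator_le_SOG (h2.le ⟨g, rfl⟩)
      rw [hg, (hd _).eq (H.ac_refl i), mem_SOG, det_oRefl (H.ne i)] at this
      exact H.two (by linear_combination -this))
    (fun ⟨g, hg⟩ => ⟨g, by
      rw [SetLike.mem_coe, mem_comap, show QuotientGroup.mk' _ g = 1 from (QuotientGroup.eq_one_iff _).2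
        (mem_center_iff.2 fun y => h1 (Subtype.ext (b.ext' fun m => by
          have : ∀ x, (ρ g).1 x = -x := fun x => b.repr.injective (Finsupp.ext fun l => by
            simp [hg, (hd _).repr])
          simp [this])))]
      exact one_mem _, hg⟩) (c := c) ⟨u, hc.eq (hd c)⟩ h9
  exact h1 (a2.trans ((hd c).eq hc)) ▸ a1

end OF

theorem tc_omega [Finite F] [FiniteDimensional F V] (h0 : (2 : F) ≠ 0)
    (hQ : (polarBilin Q).Nondegenerate) (h7 : 7 ≤ finrank F V) {G : Type*} [Group G] {ρ : G →* OG Q}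
    (h1 : Function.Injective ρ) (h2 : ρ.range = commutator (OG Q)) : Tc (G ⧸ center G) := by
  obtain ⟨n, hn⟩ : ∃ n, finrank F V = n + 1 := ⟨finrank F V - 1, by omega⟩
  obtain ⟨v, w, h3, h4⟩ := exists_orthFam_one h0 (polarBilin_isSymm Q) hQ hn
  replace h4 := h4 1 one_ne_zero
  let τ : Fin (n + 1) → Fin (n + 1) := fun i => ⟨if i.val = n then n else n - 1 - i, by split_ifs <;> omega⟩
  have hτ : ∀ i j : Fin (n + 1), τ i = j ↔ (if i.val = n then n else n - 1 - i) = j := fun i j => Fin.ext_iff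
  have h5 : Function.Involutive τ := fun i => (hτ _ _).2 (by simp only [τ]; split_ifs <;> omega)
  refine OF.tc (b := basisOfLinearIndependentOfCardEqFinrank h4.linearIndependent (by simp [hn]))
    (τ := h5.toPerm) (o := Fin.last n) (a := 2⁻¹) ⟨h0, by simpa using h4.orth, fun i e => h4.ne i (by
      simpa [polar_self', h0] using e), fun i e => ?_, h5, (hτ _ _).2 (by simp), fun i j => ?_,
      fun i j => ?_⟩ hQ (by omega) h1 h2
  · obtain ⟨i, rfl⟩ := Fin.exists_castSucc_eq.2 e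
    exact eq_inv_of_mul_eq_one_right (by simpa [polar_self'] using h3 i)
  · simp only [Function.Involutive.coe_toPerm, hτ, Ne, Fin.ext_iff, Fin.val_last]
    split_ifs <;> omega
  by_contra! k
  have k0 := k ⟨0, by omega⟩
  have k1 := k ⟨1, by omega⟩
  have k2 := k ⟨2, by omega⟩
  simp only [Function.Involutive.coe_toPerm, Ne, Fin.ext_iff, τ] at k0 k1 k2
  split_ifs at k0 k1 k2 <;> omega

end CF.TC
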