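import Cfsg.Agent.TC.C
import Cfsg.Agent.TC.D
import Cfsg.Agent.TC.O
import Cfsg.Agent.Geom.StdQuad

/-! 2-central involutions of the groups of Lie type in odd characteristic. -/

set_option autoImplicit false

namespace CF.TC

open Cfsg Cfsg.Lie CF.Chev CF.BN CF.KB CF.Sig CF.KG CF.KI

variable {p : ℕ} [Fact p.Prime] (hp : p ≠ 2) {Y : Type*} [Group Y]
include hp

section

variable {B ι : Type} [Fintype B] [DecidableEq B] [Fintype ι] [DecidableEq ι]
  {C : ChevBasis B ι} {F : Type*} [Field F] [Fintype F] {X : Type*} [Group X] {ρ : StRep C F X}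
  {S : Finset ι}

theorem tc_triv [CharP F p] [Nonempty B] (h : ρ.IsAdj) (hC : C.Conn) (H : Fr C S) (e : Y ≃* X) :
    Tc Y := by
  obtain ⟨f, -, hf⟩ := FiniteField.card F p
  have M := lt_triv (p := p) h.faithful h.gp hC h.r3
  have := M.finite
  exact (lt_elim M h (m := 1) (by rw [hf, mul_one]) (fun _ t => by
    rw [← hf, FiniteField.pow_card]; rfl) (fun _ => rfl) fun _ _ _ _ _ _ _ _ _ _ D _ N =>
    tc_frame D hp N H fun _ _ => rfl : Tc _).of_equiv (e.trans Subgroup.topEquiv.symm)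

theorem tc_two {T : Tw ρ} {G1 : Subgroup X} (M : LT p T G1 1) (h : ρ.IsAdj) {q : ℕ}
    (hF : Fintype.card F = q ^ 2) (hφ : ∀ r t, T.φ r t = t ^ q) (h1 : ∀ i, T.p (T.p i) = i)
    (hc : (∀ i, T.c (C.simple i) = 1) ∨ ∀ i, T.c (C.simple i) = -1)
    (H : Fr C S) (hS : ∀ a ∈ S, T.π a = a) (e : Y ≃* G1) : Tc Y := by
  have := M.char
  obtain ⟨f, -, hf⟩ := FiniteField.card F p
  obtain ⟨j, -, rfl⟩ := (Nat.dvd_prime_pow Fact.out).1
    (show q ∣ p ^ f.1 from hf ▸ hF ▸ dvd_pow_self q two_ne_zero)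
  have h2 : ∀ r s t, T.φ r (T.φ s t) = t := fun r s t => by
    rw [hφ, hφ, ← pow_mul, ← sq, ← hF, FiniteField.pow_card]
  have := M.finite
  exact (lt_elim M h (hF.trans (pow_mul _ _ _).symm) hφ (iter_eq
    (fun i t => by rcases hc with hc | hc <;> simp [T.σ_x, T.π_simple, h1, hc, h2]) fun i t => by
      rcases hc with hc | hc <;> simp [T.σ_x, T.π_simple, T.π_neg, T.c_neg, h1, hc, h2])
    fun _ _ _ _ _ _ _ _ _ _ D _ N => tc_frame D hp N H hS : Tc _).of_equiv e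

end

theorem tc_lie (h : IsLieTypeChar p Y) : Tc Y ∨ (∃ (K : Type) (_ : Field K) (_ : Fintype K),
    CharP K p ∧ 4 ≤ Fintype.card K ∧
      Nonempty (Y ≃* Matrix.ProjectiveSpecialLinearGroup (Fin 2) K)) ∨ IsoRee Y := by
  have h2 : ∀ (K : Type) [Field K] [CharP K p], (2 : K) ≠ 0 := fun K _ _ =>
    Ring.two_ne_zero (ringChar.eq K p ▸ hp)
  obtain ⟨K, _, _, _, n, h1, h0, ⟨e⟩⟩ | ⟨K, _, _, _, n, h1, -, ⟨e⟩⟩ |
    ⟨K, _, _, _, n, q, hK, h1, h2, ⟨e⟩⟩ | ⟨K, _, _, _, n, h1, -, ⟨e⟩⟩ | ⟨K, _, _, _, n, h1, ⟨e⟩⟩ |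
    ⟨K, _, _, _, n, a, b, h1, hab, ⟨e⟩⟩ |
    ⟨K, _, _, _, ⟨-, ⟨e⟩⟩ | ⟨⟨e⟩⟩ | ⟨⟨e⟩⟩ | ⟨⟨e⟩⟩ | ⟨⟨e⟩⟩⟩ |
    ⟨K, _, _, _, q, hq, ⟨hK, ⟨e⟩⟩ | ⟨hK, ⟨e⟩⟩⟩ | h | h | h := h
  · rcases h1.eq_or_lt with rfl | h3
    · exact .inr (.inl ⟨K, _, _, ‹_›, h0 rfl, ⟨e⟩⟩)
    obtain ⟨n, rfl⟩ : ∃ m, n = m + 1 := ⟨n - 1, by omega⟩
    have : Nonempty (Fin n) := ⟨⟨0, by omega⟩⟩
    exact .inl (tc_triv hp (adj_quot (faithful_slRep n K (by omega)) (slRep_Gp n K)) connA
      (fr_A (by omega)) e)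
  · have : Nonempty (Fin n) := ⟨⟨0, by omega⟩⟩
    exact .inl (tc_triv hp (adj_quot (faithful_spRep n K (by omega)) (spRep_Gp n K)) connC
      (fr_C h1 _) e)
  · obtain ⟨n, rfl⟩ : ∃ m, n = m + 1 := ⟨n - 1, by omega⟩
    obtain ⟨φ, h3, h4, h5⟩ := Geom.exists_conj hK
    have h6 : 1 ≤ n := by omega
    have L := lt0U h6 hK h3 h4 h5 (p := p)
    exact .inl (tc_two hp (L.quot (le_sup_of_le_left (genU h6 hK h3 h4 h5 (by omega) h2)))
      (adj_quot (twU h6 φ).faith (twU h6 φ).top) hK (fun _ => h3) Fin.rev_rev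
      (.inr fun _ => rfl) (fr_A (by omega)) (fun a ha => Subtype.ext (by
        have := mem_frA.1 ha
        exact (revA_apply a).trans
          (Prod.ext (Fin.ext (by simp; omega)) (Fin.ext (by simp; omega)))))
      (e.trans (L.nonempty_equiv (nonempty_SU_equiv hK h3 h5 h6).some).some))
  · exact .inl ((tc_omega (h2 K) (Geom.qOdd_nondegenerate (h2 K) n) (by simp; omega)
      (Geom.omegaToOG_injective _) (Geom.omegaToOG_range _)).of_equiv e)
  · exact .inl ((tc_omega (h2 K) (Geom.qPlus_nondegenerate n) (by simp; omega)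
      (Geom.omegaToOG_injective _) (Geom.omegaToOG_range _)).of_equiv e)
  · exact .inl ((tc_omega (h2 K) (Geom.qMinus_nondegenerate (n - 1) hab) (by simp; omega)
      (Geom.omegaToOG_injective _) (Geom.omegaToOG_range _)).of_equiv e)
  · have := goodG2.nonempty
    exact .inl (tc_triv hp (linkG2.isAdj K) goodG2.conn fr_G2.choose_spec e)
  · have := goodF4.nonempty
    exact .inl (tc_triv hp (linkF4.isAdj K) goodF4.conn fr_F4.choose_spec e)
  · have := goodE6.nonempty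
    exact .inl (tc_triv hp (linkE6.isAdj K) goodE6.conn fr_E6.choose_spec.1 e)
  · have := goodE7.nonempty
    exact .inl (tc_triv hp (linkE7.isAdj K) goodE7.conn fr_E7.choose_spec e)
  · have := goodE8.nonempty
    exact .inl (tc_triv hp (linkE8.isAdj K) goodE8.conn fr_E8.choose_spec e)
  · obtain ⟨φ, h1, h2⟩ := exists_frobE6 hq hK
    have h := isGr_twE6 φ
    have M := ltE6 (p := p) h1 h2
    obtain ⟨S, h3, h4⟩ := fr_E6
    exact .inl (tc_two hp M (linkE6.isAdj K) hK (fun r => h.φ_eq r ▸ h1)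
      (by rw [show (twE6 φ).p = pE6 from h.p_eq]; decide) (.inl h.c_eq) h3
      (fun a ha => cE6.vec_inj (funext fun i => by
        obtain ⟨i, rfl⟩ := pE6.surjective i
        rw [h4 a ha]
        simpa [h.p_eq] using! M.compat a i)) (e.trans (packE6 h1 h2).e))
  · obtain ⟨φ, h1, h2⟩ := exists_frobD4 hq hK
    have h := isGr_twD4 φ
    have M := ltD4 (p := p) h1 h2
    have h3 : (twD4 φ).p = pD4 := h.p_eq
    have h5 : ∀ i, pD4 (pD4 (pD4 i)) = i := by decide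
    obtain ⟨f, -, hf⟩ := FiniteField.card K p
    obtain ⟨j, -, rfl⟩ := (Nat.dvd_prime_pow Fact.out).1
      (show q ∣ p ^ f.1 from hf ▸ hK ▸ dvd_pow_self q three_ne_zero)
    have := M.finite
    exact .inl ((lt_elim M (linkD4.isAdj K) (hK.trans (pow_mul _ _ _).symm)
      (fun r => h.φ_eq r ▸ h1) (iter_eq
        (fun i t => by simp [Tw.σ_x, Tw.π_simple, h3, h.c_eq, h.φ_eq, h2, h5])
        fun i t => by simp [Tw.σ_x, Tw.π_simple, Tw.π_neg, Tw.c_neg, h3, h.c_eq, h.φ_eq, h2, h5])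
      fun _ _ _ _ _ _ _ _ _ _ D hB N => tc_nd D hB le_rfl hp (t3 sameLenD4.n3) N
        (nd_D4 fun r i => by simpa [h.p_eq] using! M.compat r i) : Tc _).of_equiv
      (e.trans (packD4 h1 h2).e))
  · exact (hp h.1).elim
  · exact (hp h.1).elim
  · exact .inr (.inr h.2)

end CF.TC
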